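import Groth.Agent.L21.ConnFam.Locus
import Groth.Agent.L21.OpenSt.CM
import Groth.Agent.L21.OpenSt.RelDim
import Groth.Agent.L21.OpenSt.Nodal
import Groth.Agent.L21.OpenSt.LineFam
import Groth.Agent.L21.CurvFib.Basic
import Groth.Agent.L21.Curve.SmoothDescent
import Groth.Agent.L21.Nodal.Gorenstein
import Groth.Agent.L03.FtPts
import Groth.Agent.L07.FibreDimSemi
import Groth.Agent.L16.ProjSpace.Dim
import Groth.Agent.L16.ProjSpace.BaseChange
import Groth.Agent.S9374
import Groth.Agent.S5755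
import Groth.Agent.L02.CMMor.AffineChart

/-!
Reduced connected curves over an algebraically closed field, and the open loci they cut out.
-/

set_option autoImplicit false
set_option linter.style.haveILetI false
set_option backward.isDefEq.respectTransparency false
set_option backward.isDefEq.respectTransparency.types false

universe u

open CategoryTheory CategoryTheory.Limits AlgebraicGeometry AlgSp TopologicalSpace

noncomputable section

namespace Groth.L21.ConnFam

open Groth.L21.OpenSt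

section Field

variable {Ω : Type u} [Field Ω] {X' : Scheme.{u}} (q : X' ⟶ Spec (CommRingCat.of Ω)) [LocallyOfFiniteType q]

/-- A reduced scheme over a field of dimension at most one is Cohen-Macaulay over it. -/
theorem isCMAt_of_reduced [IsReduced X'] (hd : topologicalKrullDim X' ≤ 1) (x : X') : cmCond q x := by
  haveI : Subsingleton ↥(Spec (CommRingCat.of Ω)) := inferInstanceAs (Subsingleton (PrimeSpectrum Ω))
  haveI : LocallyOfFinitePresentation q := inferInstance
  haveI := LocallyOfFiniteType.isLocallyNoetherian q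
  have hd' : ringKrullDim (X'.presheaf.stalk x) ≤ 1 :=
    (Groth.L21.SmoothDescent.ringKrullDim_stalk_le x).trans hd
  haveI : _root_.IsReduced (X'.presheaf.stalk x) := inferInstance
  refine ⟨Flat.stalkMap q x, ?_⟩
  obtain ⟨e⟩ := Groth.L07.CIScheme.exists_fiberStalkEquiv q (q x) (q.asFiber x) x (q.fiberι_asFiber x)
  letI := (q.stalkMap x).hom.toAlgebra
  refine L02.CMMor.cm_of_ringEquiv e ?_
  have hb : EGA4.mB ((Spec (CommRingCat.of Ω)).presheaf.stalk (q x)) (X'.presheaf.stalk x) = ⊥ := by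
    show (IsLocalRing.maximalIdeal _).map _ = _
    rw [IsLocalRing.isField_iff_maximalIdeal_eq.1
      (Groth.L21.Nodal.isField_stalk_of_maximal (q x) fun y _ => Subsingleton.elim y _), Ideal.map_bot]
  refine L02.CMMor.cm_of_ringEquiv ((Ideal.quotEquivOfEq hb).trans (RingEquiv.quotientBot _)).symm ?_
  by_cases hf : IsField (X'.presheaf.stalk x)
  · exact L02.CMMor.cm_of_dim_le_zero (ringKrullDim_eq_zero_of_isField hf).le
  · refine L02.CMMor.cm_mk (Groth.L04.isCohenMacaulayModule_iff_supportDim_le.mpr ?_)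
    rw [Module.supportDim_self_eq_ringKrullDim]
    refine hd'.trans ((WithBot.coe_le_coe (a := (1 : ℕ∞))).mpr ?_)
    exact Order.one_le_iff_pos.2 (pos_iff_ne_zero.2 fun h0 => hf ((Groth.Agent.S5755.result _).1 h0))

/-- Dimension of a scheme over a field through the local dimensions. -/
theorem dim_le_iff (c : WithBot ℕ∞) :
    topologicalKrullDim X' ≤ c ↔ ∀ x, FlatMor.fibreDimAt q x ≤ c := by
  haveI : Subsingleton ↥(Spec (CommRingCat.of Ω)) := inferInstanceAs (Subsingleton (PrimeSpectrum Ω))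
  let s : ↥(Spec (CommRingCat.of Ω)) := default
  haveI : IsIso ((Spec (CommRingCat.of Ω)).fromSpecResidueField s) :=
    Groth.L03.FtPts.isIso_fromSpecResidueField_field Ω s
  haveI : IsIso (q.fiberι s) :=
    inferInstanceAs (IsIso (pullback.fst q ((Spec (CommRingCat.of Ω)).fromSpecResidueField s)))
  rw [← (q.fiberι s).homeomorph.isHomeomorph.topologicalKrullDim_eq, Groth.L07.FibreDim.fiber_dim_le_iff]
  exact ⟨fun h x => h x (Subsingleton.elim _ _), fun h x _ => h x⟩

/-- Connected curves of dimension one are exactly the connected Cohen-Macaulay ones of pure dimension one. -/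
theorem dim_eq_one_iff [IsReduced X'] [ConnectedSpace X'] (hd : topologicalKrullDim X' ≤ 1) :
    topologicalKrullDim X' = 1 ↔ ∀ x, dimCond cmCond 1 q x := by
  haveI : Subsingleton ↥(Spec (CommRingCat.of Ω)) := inferInstanceAs (Subsingleton (PrimeSpectrum Ω))
  haveI : LocallyOfFinitePresentation q := inferInstance
  haveI : Flat q := by
    haveI := fun x => Flat.stalkMap q x
    infer_instance
  have hcm : ∀ x, cmCond q x := isCMAt_of_reduced q hd
  have hlc := Groth.Agent.S9374.result q hcm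
  constructor
  · intro h x
    refine ⟨hcm x, le_antisymm ?_ ?_⟩
    · exact (dim_le_iff q _).1 hd x
    · by_contra hne
      have h0 : FlatMor.fibreDimAt q x ≤ 0 := by
        rcases hc : FlatMor.fibreDimAt q x with _ | a
        · exact bot_le
        · rw [hc] at hne
          refine WithBot.coe_le_coe.2 (Order.lt_one_iff.1 (not_le.1 fun h1 => hne (WithBot.coe_le_coe.2 ?_))).le
          exact_mod_cast h1
      have hall : ∀ y, FlatMor.fibreDimAt q y ≤ 0 := fun y => by
        rw [hlc.apply_eq_of_preconnectedSpace y x]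
        exact h0
      have := (dim_le_iff q 0).2 hall
      rw [h] at this
      exact absurd this (by decide)
  · intro h
    refine le_antisymm hd ?_
    obtain ⟨x⟩ := (inferInstance : Nonempty X')
    have := (dim_le_iff q (topologicalKrullDim X')).1 le_rfl x
    rw [(h x).2] at this
    exact_mod_cast this

/-- Nodal schemes over a field are reduced. -/
theorem isReduced_of_ndCond (h : ∀ x, ndCond q x) : IsReduced X' := by
  obtain ⟨-, -, hfib⟩ := (everywhere_ndCond_iff q).1 h
  let s : ↥(Spec (CommRingCat.of Ω)) := default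
  obtain ⟨hirr, hnod⟩ := hfib s
  haveI : IsIso ((Spec (CommRingCat.of Ω)).fromSpecResidueField s) :=
    Groth.L03.FtPts.isIso_fromSpecResidueField_field Ω s
  haveI : IsIso (q.fiberι s) :=
    inferInstanceAs (IsIso (pullback.fst q ((Spec (CommRingCat.of Ω)).fromSpecResidueField s)))
  letI : (q.fiber s).Over (Spec (CommRingCat.of ((Spec (CommRingCat.of Ω)).residueField s))) :=
    ⟨q.fiberToSpecResidueField s⟩
  haveI : LocallyOfFiniteType (q.fiber s ↘ Spec (CommRingCat.of ((Spec (CommRingCat.of Ω)).residueField s))) :=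
    MorphismProperty.pullback_snd q ((Spec (CommRingCat.of Ω)).fromSpecResidueField s) inferInstance
  haveI : ∀ z : q.fiber s, _root_.IsReduced ((q.fiber s).presheaf.stalk z) := fun z =>
    (Groth.L21.Nodal.isGorensteinLocalRing_and_isReduced_stalk
      (k := (Spec (CommRingCat.of Ω)).residueField s) (X := q.fiber s)
      ((Groth.L21.Nodal.curveLike_iff _).2 hirr) hnod z).2
  haveI : IsReduced (q.fiber s) := isReduced_of_isReduced_stalk _
  exact isReduced_of_isOpenImmersion (inv (q.fiberι s))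

end Field

variable {S : Scheme.{u}}

/-- An everywhere-condition read at a single geometric point. -/
theorem exists_ptCond_locus {Φ : PtCond.{u}} (hΦ : Φ.Good) {n : ℕ} (B : CurvSt.SpFamObj S n)
    (hB : CurvSt.IsCurveFam B) :
    ∃ O : B.base.left.Opens, ∀ (Ω : Type u) [Field Ω] [IsAlgClosed Ω] (t : Spec (CommRingCat.of Ω) ⟶ B.base.left)
      (X' : Scheme.{u}) (q : X' ⟶ Spec (CommRingCat.of Ω)) (i : (AlgSp.yon S).obj (B.ptOver (q ≫ t)) ⟶ B.X),
      IsPullback i ((AlgSp.yon S).map (B.fibHom t q)) B.f ((AlgSp.yon S).map (B.ptHom t)) →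
        ((∀ x, Φ q x) ↔ t default ∈ O) := by
  obtain ⟨hX, hflat, hprop, hfp, -⟩ := hB
  obtain ⟨O, hO⟩ := exists_locus hΦ hX hflat hfp.1 hprop.2.2
  refine ⟨O, fun Ω _ _ t X' q i hP => ?_⟩
  have hfl' := Groth.L23.locP_of_isPullback Groth.L23.etLocal_flat hX (IsAlgSpace.yon_obj _) (IsAlgSpace.yon_obj _) hP hflat
  have hfp' := Groth.L23.locP_of_isPullback Groth.L23.etLocal_lfp hX (IsAlgSpace.yon_obj _) (IsAlgSpace.yon_obj _) hP hfp.1
  let A₀ : Atl ((AlgSp.yon S).map (B.fibHom t q)) :=
    ⟨B.ptOver (q ≫ t), 𝟙 _, B.fibHom t q, AlgSp.repWith_id _ _, AlgSp.repWith_id _ _, Category.id_comp _⟩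
  refine ((locP_iff hΦ hfl' hfp' A₀).symm.trans (hO _ _ _ i (B.ptHom t) (IsAlgSpace.yon_obj _) hfl' hfp' hP).1).trans
    ⟨fun h => h (default : ↥(Spec (CommRingCat.of Ω))), fun h z => ?_⟩
  show t z ∈ O
  rw [Subsingleton.elim (α := PrimeSpectrum Ω) z (default : ↥(Spec (CommRingCat.of Ω)))]
  exact h

/-- The locus of reduced connected one-dimensional fibres is open. -/
theorem exists_connDimOne_locus {n : ℕ} (B : CurvSt.SpFamObj S n) (hB : CurvSt.IsCurveFam B) :
    ∃ O : B.base.left.Opens, ∀ (Ω : Type u) [Field Ω] [IsAlgClosed Ω] (t : Spec (CommRingCat.of Ω) ⟶ B.base.left)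
      (X' : Scheme.{u}) (q : X' ⟶ Spec (CommRingCat.of Ω)) (i : (AlgSp.yon S).obj (B.ptOver (q ≫ t)) ⟶ B.X),
      IsPullback i ((AlgSp.yon S).map (B.fibHom t q)) B.f ((AlgSp.yon S).map (B.ptHom t)) →
        (IsReduced X' ∧ ConnectedSpace ↥X' ∧ topologicalKrullDim ↥X' = 1 ↔ t default ∈ O) := by
  obtain ⟨O₁, h₁⟩ := exists_conn_locus B hB
  obtain ⟨O₂, h₂⟩ := exists_ptCond_locus
    (dimCond_good cmCond_good.{u} 1 (fun g _ _ h => Groth.Agent.S9374.result g h)) B hB
  refine ⟨O₁ ⊓ O₂, fun Ω _ _ t X' q i hP => ?_⟩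
  rw [← and_assoc, Opens.mem_inf, ← h₁ Ω t X' q i hP, ← h₂ Ω t X' q i hP]
  refine and_congr_right fun h => ?_
  haveI := h.1
  haveI := h.2
  haveI := lfp_fibre B hB hP
  exact dim_eq_one_iff q (topologicalKrullDim_fibre B hB hP)

/-- The locus of nodal connected fibres is open. -/
theorem exists_prestable_locus {n : ℕ} (B : CurvSt.SpFamObj S n) (hB : CurvSt.IsCurveFam B) :
    ∃ O : B.base.left.Opens, ∀ (Ω : Type u) [Field Ω] [IsAlgClosed Ω] (t : Spec (CommRingCat.of Ω) ⟶ B.base.left)
      (X' : Scheme.{u}) (q : X' ⟶ Spec (CommRingCat.of Ω)) (i : (AlgSp.yon S).obj (B.ptOver (q ≫ t)) ⟶ B.X),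
      IsPullback i ((AlgSp.yon S).map (B.fibHom t q)) B.f ((AlgSp.yon S).map (B.ptHom t)) →
        ((∀ x, ndCond q x) ∧ ConnectedSpace ↥X' ↔ t default ∈ O) := by
  obtain ⟨O₁, h₁⟩ := exists_conn_locus B hB
  obtain ⟨O₂, h₂⟩ := exists_ptCond_locus ndCond_good B hB
  refine ⟨O₁ ⊓ O₂, fun Ω _ _ t X' q i hP => ?_⟩
  rw [Opens.mem_inf, ← h₁ Ω t X' q i hP, ← h₂ Ω t X' q i hP]
  haveI := lfp_fibre B hB hP
  exact ⟨fun h => ⟨⟨isReduced_of_ndCond q h.1, h.2⟩, h.1⟩, fun h => ⟨h.2, h.1.2⟩⟩

/-- The geometric fibres of the projective line are reduced, connected, of dimension one. -/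
theorem geomFib_line (Ω : Type u) [Field Ω] (t : Spec (CommRingCat.of Ω) ⟶ S) :
    CurvSt.GeomFib (fun _ _ _ X' _ _ => IsReduced X' ∧ ConnectedSpace ↥X' ∧ topologicalKrullDim ↥X' = 1)
      (lineFam Ω t) := by
  refine (Groth.L21.CurvFib.geomFib_iff Ω t (CohB1.ProjSpace 1 Ω) (CohB1.ProjSpace.toSpec 1 Ω)
    fun _ _ _ X' _ => IsReduced X' ∧ ConnectedSpace ↥X' ∧ topologicalKrullDim ↥X' = 1).2 ?_
  intro K _ _ s X' q i hi
  obtain ⟨φ, rfl⟩ := Spec.map_surjective s
  have hP : IsPullback (Groth.L16.ProjSpace.map 1 φ.hom) (CohB1.ProjSpace.toSpec 1 K)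
      (CohB1.ProjSpace.toSpec 1 Ω) (Spec.map φ) := Groth.L16.ProjSpace.isPullback_map 1 φ.hom
  let e : X' ≅ CohB1.ProjSpace 1 K := hi.isoIsPullback _ _ hP
  haveI : IsIntegral (CohB1.ProjSpace 1 K) := Groth.L16.ProjSpace.isIntegral (n := 1) (R := K)
  haveI : IsReduced X' := isReduced_of_isOpenImmersion e.hom
  haveI : IrreducibleSpace ↥(CohB1.ProjSpace 1 K) := inferInstance
  refine ⟨inferInstance, e.inv.homeomorph.surjective.connectedSpace e.inv.homeomorph.continuous, ?_⟩
  rw [e.hom.homeomorph.isHomeomorph.topologicalKrullDim_eq, Groth.L16.ProjSpace.topologicalKrullDim_eq_of_field]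
  rfl

end Groth.L21.ConnFam
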