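import Groth.Agent.L21.ConnFam.Sheets
import Mathlib.RingTheory.FinitePresentation
import Mathlib.RingTheory.TensorProduct.Basic
import Mathlib.LinearAlgebra.TensorProduct.RightExactness

/-!
A finitely presented algebra whose spectrum has, over every field, the connectedness of a coequaliser of spectra.
-/

set_option autoImplicit false
set_option linter.style.haveILetI false
set_option backward.isDefEq.respectTransparency false
set_option backward.isDefEq.respectTransparency.types false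

universe u

open TensorProduct MvPolynomial Algebra.TensorProduct

noncomputable section

namespace Groth.L21.ConnFam
attribute [local instance 2000] Algebra.TensorProduct.instCommRing

variable {A C D : Type u} [CommRing A] [CommRing C] [CommRing D] [Algebra A C] [Algebra A D] (s t : C →ₐ[A] D)

/-- The coequaliser of the two maps between the spectra over a field is connected. -/
def CoeqConn (K : Type u) [Field K] [Algebra A K] : Prop :=
  Nontrivial (K ⊗[A] C) ∧ ∀ e : K ⊗[A] C, IsIdempotentElem e →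
    Algebra.TensorProduct.map (AlgHom.id A K) s e = Algebra.TensorProduct.map (AlgHom.id A K) t e → e = 0 ∨ e = 1

variable {n : ℕ} (c : Fin n → C)

/-- The coordinates of the ambient affine space. -/
abbrev Amb (A : Type u) [CommRing A] (n : ℕ) : Type u := MvPolynomial (Fin n ⊕ Fin n ⊕ Fin 2) A

/-- The first sheet. -/
def g₀ : Amb A n →ₐ[A] MvPolynomial (Fin n ⊕ Unit) C :=
  MvPolynomial.aeval (Sum.elim (fun i => MvPolynomial.C (c i))
    (Sum.elim (fun j => X (Sum.inl j)) ![0, X (Sum.inr ())]))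

/-- The second sheet. -/
def g₁ : Amb A n →ₐ[A] MvPolynomial (Fin n ⊕ Unit) C :=
  MvPolynomial.aeval (Sum.elim (fun j => X (Sum.inl j))
    (Sum.elim (fun i => MvPolynomial.C (c i)) ![1, X (Sum.inr ())]))

/-- The sheet joining the two copies. -/
def g₃ : Amb A n →ₐ[A] MvPolynomial Unit C :=
  MvPolynomial.aeval (Sum.elim (fun i => MvPolynomial.C (c i))
    (Sum.elim (fun i => MvPolynomial.C (c i)) ![X (), 1]))

/-- The segments. -/
def g₄ : Amb A n →ₐ[A] MvPolynomial Unit D :=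
  MvPolynomial.aeval (Sum.elim (fun i => MvPolynomial.C (s (c i)))
    (Sum.elim (fun i => MvPolynomial.C (t (c i))) ![X (), 0]))

theorem range_eq_top {τ : Type} {B : Type u} [CommRing B] [Algebra A B] (g : Amb A n →ₐ[A] MvPolynomial τ B)
    (hC : ∀ b : B, MvPolynomial.C b ∈ g.range) (hX : ∀ j, X j ∈ g.range) : Function.Surjective g := fun p => by
  induction p using MvPolynomial.induction_on with
  | C b => exact AlgHom.mem_range _ |>.1 (hC b)
  | add p q hp hq =>
    obtain ⟨x, rfl⟩ := hp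
    obtain ⟨y, rfl⟩ := hq
    exact ⟨x + y, map_add _ _ _⟩
  | mul_X p j hp =>
    obtain ⟨x, rfl⟩ := hp
    obtain ⟨y, hy⟩ := AlgHom.mem_range _ |>.1 (hX j)
    exact ⟨x * y, by rw [map_mul, hy]⟩

variable (hc : Algebra.adjoin A (Set.range c) = ⊤)

include hc in
theorem C_mem_range {τ : Type} {B : Type u} [CommRing B] [Algebra A B] (g : Amb A n →ₐ[A] MvPolynomial τ B)
    (φ : C →ₐ[A] B) (h : ∀ i, MvPolynomial.C (φ (c i)) ∈ g.range) (x : C) : MvPolynomial.C (φ x) ∈ g.range := by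
  have hx : x ∈ Algebra.adjoin A (Set.range c) := hc ▸ Algebra.mem_top
  induction hx using Algebra.adjoin_induction with
  | mem x hx => obtain ⟨i, rfl⟩ := hx; exact h i
  | algebraMap r =>
    rw [AlgHom.commutes]
    exact Subalgebra.algebraMap_mem g.range r
  | add x y _ _ hx hy => rw [map_add, map_add]; exact add_mem hx hy
  | mul x y _ _ hx hy => rw [map_mul, map_mul]; exact mul_mem hx hy

include hc in
theorem surjective_g₀ : Function.Surjective (g₀ c : Amb A n →ₐ[A] _) := by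
  refine range_eq_top _ (C_mem_range c hc _ (AlgHom.id A C) fun i => ⟨X (Sum.inl i), by simp [g₀]⟩) ?_
  rintro (j | ⟨⟩)
  · exact ⟨X (Sum.inr (Sum.inl j)), by simp [g₀]⟩
  · exact ⟨X (Sum.inr (Sum.inr 1)), by simp [g₀]⟩

include hc in
theorem surjective_g₁ : Function.Surjective (g₁ c : Amb A n →ₐ[A] _) := by
  refine range_eq_top _ (C_mem_range c hc _ (AlgHom.id A C) fun i => ⟨X (Sum.inr (Sum.inl i)), by simp [g₁]⟩) ?_
  rintro (j | ⟨⟩)
  · exact ⟨X (Sum.inl j), by simp [g₁]⟩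
  · exact ⟨X (Sum.inr (Sum.inr 1)), by simp [g₁]⟩

include hc in
theorem surjective_g₃ : Function.Surjective (g₃ c : Amb A n →ₐ[A] _) := by
  refine range_eq_top _ (C_mem_range c hc _ (AlgHom.id A C) fun i => ⟨X (Sum.inl i), by simp [g₃]⟩) ?_
  rintro ⟨⟩
  exact ⟨X (Sum.inr (Sum.inr 0)), by simp [g₃]⟩

include hc in
theorem surjective_g₄ (hgen : Algebra.adjoin A (Set.range s ∪ Set.range t) = ⊤) :
    Function.Surjective (g₄ s t c) := by
  refine range_eq_top _ (fun x => ?_) ?_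
  · have hx : x ∈ Algebra.adjoin A (Set.range s ∪ Set.range t) := hgen ▸ Algebra.mem_top
    induction hx using Algebra.adjoin_induction with
    | mem x hx =>
      rcases hx with ⟨y, rfl⟩ | ⟨y, rfl⟩
      · exact C_mem_range c hc _ s (fun i => ⟨X (Sum.inl i), by simp [g₄]⟩) y
      · exact C_mem_range c hc _ t (fun i => ⟨X (Sum.inr (Sum.inl i)), by simp [g₄]⟩) y
    | algebraMap r => exact Subalgebra.algebraMap_mem (g₄ s t c).range r
    | add x y _ _ hx hy => rw [map_add]; exact add_mem hx hy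
    | mul x y _ _ hx hy => rw [map_mul]; exact mul_mem hx hy
  · rintro ⟨⟩
    exact ⟨X (Sum.inr (Sum.inr 0)), by simp [g₄]⟩

/-- The ideal of the union of the four sheets. -/
def unionIdeal : Ideal (Amb A n) :=
  RingHom.ker (g₀ c) * RingHom.ker (g₁ c) * RingHom.ker (g₃ c) * RingHom.ker (g₄ s t c)

/-- The union of the four sheets. -/
def Tot : Type u := Amb A n ⧸ unionIdeal s t c

instance instCommRingTot : CommRing (Tot s t c) := inferInstanceAs (CommRing (Amb A n ⧸ unionIdeal s t c))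

instance instAlgebraTot : Algebra A (Tot s t c) := inferInstanceAs (Algebra A (Amb A n ⧸ unionIdeal s t c))

include hc in
theorem finitePresentation_tot [Algebra.FinitePresentation A C] [Algebra.FinitePresentation A D]
    (hgen : Algebra.adjoin A (Set.range s ∪ Set.range t) = ⊤) : Algebra.FinitePresentation A (Tot s t c) := by
  haveI : ∀ (τ : Type) [Finite τ] (B : Type u) [CommRing B] [Algebra A B] [Algebra.FinitePresentation A B],
      Algebra.FinitePresentation A (MvPolynomial τ B) := fun τ _ B _ _ _ =>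
    Algebra.FinitePresentation.trans A B (MvPolynomial τ B)
  show Algebra.FinitePresentation A (Amb A n ⧸ unionIdeal s t c)
  refine Algebra.FinitePresentation.quotient (Ideal.FG.mul (Ideal.FG.mul (Ideal.FG.mul ?_ ?_) ?_) ?_)
  · exact Algebra.FinitePresentation.ker_fG_of_surjective _ (surjective_g₀ c hc)
  · exact Algebra.FinitePresentation.ker_fG_of_surjective _ (surjective_g₁ c hc)
  · exact Algebra.FinitePresentation.ker_fG_of_surjective _ (surjective_g₃ c hc)
  · exact Algebra.FinitePresentation.ker_fG_of_surjective _ (surjective_g₄ s t c hc hgen)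

theorem le_ker₀ : unionIdeal s t c ≤ RingHom.ker (g₀ c) :=
  Ideal.mul_le_left.trans (Ideal.mul_le_left.trans Ideal.mul_le_left) |> fun h => by exact h

theorem le_ker₁ : unionIdeal s t c ≤ RingHom.ker (g₁ c) :=
  Ideal.mul_le_left.trans (Ideal.mul_le_left.trans Ideal.mul_le_right) |> fun h => by exact h

theorem le_ker₃ : unionIdeal s t c ≤ RingHom.ker (g₃ c) :=
  Ideal.mul_le_left.trans Ideal.mul_le_right |> fun h => by exact h

theorem le_ker₄ : unionIdeal s t c ≤ RingHom.ker (g₄ s t c) :=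
  Ideal.mul_le_right |> fun h => by exact h

variable (K : Type u) [Field K] [Algebra A K]

/-- The base change of a sheet. -/
def sheet {τ : Type} {B : Type u} [CommRing B] [Algebra A B] (g : Amb A n →ₐ[A] MvPolynomial τ B)
    (hg : unionIdeal s t c ≤ RingHom.ker g) : K ⊗[A] Tot s t c →+* MvPolynomial τ (K ⊗[A] B) :=
  (Algebra.TensorProduct.lift
    ((IsScalarTower.toAlgHom A (K ⊗[A] B) (MvPolynomial τ (K ⊗[A] B))).comp includeLeft)
    ((MvPolynomial.mapAlgHom (includeRight : B →ₐ[A] K ⊗[A] B)).comp (Ideal.Quotient.liftₐ _ g hg))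
    fun _ _ => Commute.all _ _).toRingHom

theorem sheet_k {τ : Type} {B : Type u} [CommRing B] [Algebra A B] {g : Amb A n →ₐ[A] MvPolynomial τ B}
    (hg : unionIdeal s t c ≤ RingHom.ker g) (k : K) :
    sheet s t c K g hg (k ⊗ₜ[A] 1) = MvPolynomial.C (k ⊗ₜ[A] 1) := by
  show Algebra.TensorProduct.lift _ _ _ (k ⊗ₜ[A] 1) = _
  rw [lift_tmul, map_one, mul_one]
  rfl

theorem sheet_p {τ : Type} {B : Type u} [CommRing B] [Algebra A B] {g : Amb A n →ₐ[A] MvPolynomial τ B}
    (hg : unionIdeal s t c ≤ RingHom.ker g) (p : Amb A n) :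
    sheet s t c K g hg (1 ⊗ₜ[A] Ideal.Quotient.mk _ p) =
      MvPolynomial.map (includeRight : B →ₐ[A] K ⊗[A] B).toRingHom (g p) := by
  show Algebra.TensorProduct.lift _ _ _ ((1 : K) ⊗ₜ[A] Ideal.Quotient.mk _ p) = _
  rw [lift_tmul, map_one, one_mul]
  rfl

variable {s t c K}

theorem sheet_surjective {τ : Type} {B : Type u} [CommRing B] [Algebra A B] {g : Amb A n →ₐ[A] MvPolynomial τ B}
    (hg : unionIdeal s t c ≤ RingHom.ker g) (hs : Function.Surjective g) :
    Function.Surjective (sheet s t c K g hg) := by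
  intro p
  induction p using MvPolynomial.induction_on with
  | C b =>
    induction b using TensorProduct.induction_on with
    | zero => exact ⟨0, by simp⟩
    | tmul k b =>
      obtain ⟨q, hq⟩ := hs (MvPolynomial.C b)
      refine ⟨(k ⊗ₜ[A] 1) * (1 ⊗ₜ[A] Ideal.Quotient.mk _ q), ?_⟩
      rw [map_mul, sheet_k, sheet_p, hq, map_C, ← map_mul]
      congr 1
      show (k ⊗ₜ[A] (1 : B)) * ((1 : K) ⊗ₜ[A] b) = _
      rw [Algebra.TensorProduct.tmul_mul_tmul, mul_one, one_mul]
    | add x y hx hy =>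
      obtain ⟨x', hx'⟩ := hx
      obtain ⟨y', hy'⟩ := hy
      exact ⟨x' + y', by rw [map_add, map_add, hx', hy']⟩
  | add p q hp hq =>
    obtain ⟨x, rfl⟩ := hp
    obtain ⟨y, rfl⟩ := hq
    exact ⟨x + y, map_add _ _ _⟩
  | mul_X p j hp =>
    obtain ⟨x, rfl⟩ := hp
    obtain ⟨q, hq⟩ := hs (X j)
    refine ⟨x * (1 ⊗ₜ[A] Ideal.Quotient.mk _ q), ?_⟩
    rw [map_mul, sheet_p, hq, map_X]

theorem exists_psi {τ : Type} {B : Type u} [CommRing B] [Algebra A B] {g : Amb A n →ₐ[A] MvPolynomial τ B}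
    (hg : unionIdeal s t c ≤ RingHom.ker g) (hs : Function.Surjective g) {L : Type u} [CommRing L]
    (χ : K ⊗[A] Tot s t c →+* L)
    (h : RingHom.ker g ≤ RingHom.ker (χ.comp ((includeRight : Tot s t c →ₐ[A] _).toRingHom.comp
      (Ideal.Quotient.mk (unionIdeal s t c))))) :
    ∃ ψ : MvPolynomial τ (K ⊗[A] B) →+* L, ψ.comp (sheet s t c K g hg) = χ := by
  letI : Algebra A L := (χ.comp (algebraMap A (K ⊗[A] Tot s t c))).toAlgebra
  let χA : K ⊗[A] Tot s t c →ₐ[A] L := { χ with commutes' := fun _ => rfl }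
  let χ₀ : Amb A n →ₐ[A] L := (χA.comp includeRight).comp (Ideal.Quotient.mkₐ A (unionIdeal s t c))
  obtain ⟨ψ₀, hψ₀⟩ : ∃ ψ₀ : MvPolynomial τ B →ₐ[A] L, ψ₀.comp g = χ₀ :=
    ⟨AlgHom.liftOfSurjective g hs χ₀ h, AlgHom.liftOfSurjective_comp _ _ _ _⟩
  let θ : K ⊗[A] B →ₐ[A] L := Algebra.TensorProduct.lift (χA.comp includeLeft)
    (ψ₀.comp (IsScalarTower.toAlgHom A B (MvPolynomial τ B))) fun _ _ => Commute.all _ _
  refine ⟨eval₂Hom θ.toRingHom (fun j => ψ₀ (X j)), Algebra.TensorProduct.ringHom_ext ?_ ?_⟩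
  · refine RingHom.ext fun k => ?_
    show eval₂ θ.toRingHom _ (sheet s t c K g hg (k ⊗ₜ[A] 1)) = χ (k ⊗ₜ[A] 1)
    rw [sheet_k, eval₂_C]
    show θ (k ⊗ₜ[A] (1 : B)) = _
    simp only [θ, lift_tmul, map_one, mul_one]
    rfl
  · refine Ideal.Quotient.ringHom_ext (RingHom.ext fun p => ?_)
    show eval₂ θ.toRingHom _ (sheet s t c K g hg (1 ⊗ₜ[A] Ideal.Quotient.mk _ p)) = χ (1 ⊗ₜ[A] Ideal.Quotient.mk _ p)
    rw [sheet_p, eval₂_map]
    refine Eq.trans ?_ (DFunLike.congr_fun hψ₀ p)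
    show eval₂Hom _ _ (g p) = ψ₀.toRingHom (g p)
    refine RingHom.congr_fun (MvPolynomial.ringHom_ext (fun b => ?_) fun j => ?_) (g p)
    · rw [eval₂Hom_C]
      show θ ((1 : K) ⊗ₜ[A] b) = _
      simp only [θ, lift_tmul, map_one, one_mul]
      rfl
    · rw [eval₂Hom_X']
      rfl

variable (s t c K)

include hc in
theorem cover (hgen : Algebra.adjoin A (Set.range s ∪ Set.range t) = ⊤) :
    RingHom.ker (sheet s t c K _ (le_ker₀ s t c)) * RingHom.ker (sheet s t c K _ (le_ker₁ s t c)) *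
      RingHom.ker (sheet s t c K _ (le_ker₃ s t c)) * RingHom.ker (sheet s t c K _ (le_ker₄ s t c)) ≤
        nilradical (K ⊗[A] Tot s t c) := by
  rw [nilradical_eq_sInf]
  refine le_sInf fun P hP => ?_
  obtain ⟨P, rfl⟩ : ∃ P' : PrimeSpectrum (K ⊗[A] Tot s t c), P'.asIdeal = P := ⟨⟨P, hP⟩, rfl⟩
  let χ := resHom P
  have hker : RingHom.ker χ = P.asIdeal := ker_resHom P
  let χ₀ := χ.comp ((includeRight : Tot s t c →ₐ[A] _).toRingHom.comp (Ideal.Quotient.mk (unionIdeal s t c)))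
  haveI : (RingHom.ker χ₀).IsPrime := RingHom.ker_isPrime _
  have h : unionIdeal s t c ≤ RingHom.ker χ₀ := fun p hp => by
    show χ (1 ⊗ₜ[A] Ideal.Quotient.mk _ p) = 0
    rw [Ideal.Quotient.eq_zero_iff_mem.2 hp, TensorProduct.tmul_zero, map_zero]
  have fin : ∀ {τ : Type} {B : Type u} [CommRing B] [Algebra A B] {g : Amb A n →ₐ[A] MvPolynomial τ B}
      (hg : unionIdeal s t c ≤ RingHom.ker g), Function.Surjective g → RingHom.ker g ≤ RingHom.ker χ₀ →
      RingHom.ker (sheet s t c K g hg) ≤ P.asIdeal := fun hg hs hle x hx => by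
    obtain ⟨ψ, hψ⟩ := exists_psi hg hs χ hle
    rw [← hker, RingHom.mem_ker, ← hψ, RingHom.comp_apply, RingHom.mem_ker.1 hx, map_zero]
  rcases (Ideal.IsPrime.mul_le ‹_›).1 h with h | h
  · rcases (Ideal.IsPrime.mul_le ‹_›).1 h with h | h
    · rcases (Ideal.IsPrime.mul_le ‹_›).1 h with h | h
      · exact (Ideal.mul_le_left.trans (Ideal.mul_le_left.trans Ideal.mul_le_left)).trans
          (fin (le_ker₀ s t c) (surjective_g₀ c hc) h)
      · exact (Ideal.mul_le_left.trans (Ideal.mul_le_left.trans Ideal.mul_le_right)).trans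
          (fin (le_ker₁ s t c) (surjective_g₁ c hc) h)
    · exact (Ideal.mul_le_left.trans Ideal.mul_le_right).trans (fin (le_ker₃ s t c) (surjective_g₃ c hc) h)
  · exact Ideal.mul_le_right.trans (fin (le_ker₄ s t c) (surjective_g₄ s t c hc hgen) h)

/-- Two homomorphisms on sheets agree as soon as they agree on the coordinates. -/
theorem eval_ext {τ τ' : Type} {B B' : Type u} [CommRing B] [Algebra A B] [CommRing B'] [Algebra A B']
    {g : Amb A n →ₐ[A] MvPolynomial τ B} {g' : Amb A n →ₐ[A] MvPolynomial τ' B'}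
    (hg : unionIdeal s t c ≤ RingHom.ker g) (hg' : unionIdeal s t c ≤ RingHom.ker g')
    {T : Type u} [CommRing T] (ψ : K ⊗[A] B →+* T) (ψ' : K ⊗[A] B' →+* T) (v : τ → T) (v' : τ' → T)
    (hk : ∀ k : K, ψ (k ⊗ₜ[A] 1) = ψ' (k ⊗ₜ[A] 1))
    (hX : ∀ j, eval₂ (ψ.comp (includeRight : B →ₐ[A] K ⊗[A] B).toRingHom) v (g (X j)) =
      eval₂ (ψ'.comp (includeRight : B' →ₐ[A] K ⊗[A] B').toRingHom) v' (g' (X j))) (f : K ⊗[A] Tot s t c) :
    eval₂ ψ v (sheet s t c K g hg f) = eval₂ ψ' v' (sheet s t c K g' hg' f) := by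
  refine RingHom.congr_fun (f := (eval₂Hom ψ v).comp (sheet s t c K g hg))
    (g := (eval₂Hom ψ' v').comp (sheet s t c K g' hg')) ?_ f
  refine Algebra.TensorProduct.ringHom_ext ?_ ?_
  · refine RingHom.ext fun k => ?_
    show eval₂ ψ v (sheet s t c K g hg (k ⊗ₜ[A] 1)) = eval₂ ψ' v' (sheet s t c K g' hg' (k ⊗ₜ[A] 1))
    rw [sheet_k, sheet_k, eval₂_C, eval₂_C, hk]
  · refine Ideal.Quotient.ringHom_ext (MvPolynomial.ringHom_ext (fun a => ?_) fun j => ?_)
    · show eval₂ ψ v (sheet s t c K g hg (1 ⊗ₜ[A] Ideal.Quotient.mk _ (MvPolynomial.C a))) =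
        eval₂ ψ' v' (sheet s t c K g' hg' (1 ⊗ₜ[A] Ideal.Quotient.mk _ (MvPolynomial.C a)))
      rw [sheet_p, sheet_p, ← MvPolynomial.algebraMap_eq, AlgHom.commutes, AlgHom.commutes]
      show eval₂ ψ v (MvPolynomial.map _ (MvPolynomial.C (algebraMap A B a))) =
        eval₂ ψ' v' (MvPolynomial.map _ (MvPolynomial.C (algebraMap A B' a)))
      rw [map_C, map_C, eval₂_C, eval₂_C]
      show ψ ((includeRight : B →ₐ[A] K ⊗[A] B) (algebraMap A B a)) =
        ψ' ((includeRight : B' →ₐ[A] K ⊗[A] B') (algebraMap A B' a))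
      rw [AlgHom.commutes, AlgHom.commutes]
      exact hk _
    · show eval₂ ψ v (sheet s t c K g hg (1 ⊗ₜ[A] Ideal.Quotient.mk _ (X j))) =
        eval₂ ψ' v' (sheet s t c K g' hg' (1 ⊗ₜ[A] Ideal.Quotient.mk _ (X j)))
      rw [sheet_p, sheet_p, eval₂_map, eval₂_map]
      exact hX j

theorem map_k (φ : C →ₐ[A] D) (k : K) :
    Algebra.TensorProduct.map (AlgHom.id A K) φ (k ⊗ₜ[A] 1) = k ⊗ₜ[A] 1 := by
  rw [Algebra.TensorProduct.map_tmul, map_one]
  rfl

include hc in
theorem hom_ext {L : Type u} [CommRing L] {φ φ' : K ⊗[A] C →+* L}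
    (hk : ∀ k : K, φ (k ⊗ₜ[A] 1) = φ' (k ⊗ₜ[A] 1)) (h : ∀ i, φ (1 ⊗ₜ[A] c i) = φ' (1 ⊗ₜ[A] c i)) : φ = φ' := by
  refine Algebra.TensorProduct.ringHom_ext (RingHom.ext hk) (RingHom.ext fun x => ?_)
  have hx : x ∈ Algebra.adjoin A (Set.range c) := hc ▸ Algebra.mem_top
  show φ (1 ⊗ₜ[A] x) = φ' (1 ⊗ₜ[A] x)
  induction hx using Algebra.adjoin_induction with
  | mem x hx => obtain ⟨i, rfl⟩ := hx; exact h i
  | algebraMap r =>
    show φ ((includeRight : C →ₐ[A] K ⊗[A] C) (algebraMap A C r)) = φ' ((includeRight : C →ₐ[A] K ⊗[A] C) (algebraMap A C r))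
    rw [AlgHom.commutes]
    exact hk _
  | add x y _ _ hx hy => rw [TensorProduct.tmul_add, map_add, map_add, hx, hy]
  | mul x y _ _ hx hy =>
    rw [show (1 : K) ⊗ₜ[A] (x * y) = (1 ⊗ₜ[A] x) * (1 ⊗ₜ[A] y) by
      rw [Algebra.TensorProduct.tmul_mul_tmul, one_mul], map_mul, map_mul, hx, hy]

include hc in
/-- The four sheets of the base change. -/
theorem nonempty_sheets (hgen : Algebra.adjoin A (Set.range s ∪ Set.range t) = ⊤) :
    Nonempty (Sheets (Algebra.TensorProduct.map (AlgHom.id A K) s).toRingHom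
      (Algebra.TensorProduct.map (AlgHom.id A K) t).toRingHom (Fin n ⊕ Unit) (K ⊗[A] Tot s t c)) := by
  let h₀ := sheet s t c K _ (le_ker₀ s t c)
  let h₁ := sheet s t c K _ (le_ker₁ s t c)
  let h₃ := sheet s t c K _ (le_ker₃ s t c)
  let h₄ := sheet s t c K _ (le_ker₄ s t c)
  let cC : Fin n → K ⊗[A] C := fun i => 1 ⊗ₜ[A] c i
  let cs : Fin n → K ⊗[A] D := fun i => 1 ⊗ₜ[A] s (c i)
  let ct : Fin n → K ⊗[A] D := fun i => 1 ⊗ₜ[A] t (c i)
  have kk : ∀ {τ : Type} {B : Type u} [CommRing B] [Algebra A B] {g : Amb A n →ₐ[A] MvPolynomial τ B}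
      {hg : unionIdeal s t c ≤ RingHom.ker g} {L : Type u} [CommRing L] (ψ : MvPolynomial τ (K ⊗[A] B) →+* L) (k : K),
      ψ (MvPolynomial.C (k ⊗ₜ[A] 1)) = ψ.comp (sheet s t c K g hg) (k ⊗ₜ[A] 1) := fun {τ B _ _ g hg L _} ψ k => by
    rw [RingHom.comp_apply, sheet_k]
  have cc : ∀ {τ : Type} {B : Type u} [CommRing B] [Algebra A B] {g : Amb A n →ₐ[A] MvPolynomial τ B}
      {hg : unionIdeal s t c ≤ RingHom.ker g} {L : Type u} [CommRing L] (ψ : MvPolynomial τ (K ⊗[A] B) →+* L)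
      {p : Amb A n} {b : B}, g p = MvPolynomial.C b →
      ψ (MvPolynomial.C (1 ⊗ₜ[A] b)) = ψ.comp (sheet s t c K g hg) (1 ⊗ₜ[A] Ideal.Quotient.mk _ p) :=
    fun {τ B _ _ g hg L _} ψ {p b} hp => by
      rw [RingHom.comp_apply, sheet_p, hp, map_C]
      rfl
  exact ⟨{
    h₀ := h₀
    h₁ := h₁
    h₃ := h₃
    h₄ := h₄
    surj₀ := sheet_surjective _ (surjective_g₀ c hc)
    surj₁ := sheet_surjective _ (surjective_g₁ c hc)
    surj₃ := sheet_surjective _ (surjective_g₃ c hc)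
    surj₄ := sheet_surjective _ (surjective_g₄ s t c hc hgen)
    cover := cover s t c hc K hgen
    end03 := ⟨Sum.elim cC fun _ => 1, fun _ => 0, fun f => eval_ext s t c K _ _ _ _ _ _ (fun _ => rfl) (by
      rintro (i | i | i) <;> [skip; skip; fin_cases i] <;> simp [g₀, g₃, cC]) f⟩
    end13 := ⟨Sum.elim cC fun _ => 1, fun _ => 1, fun f => eval_ext s t c K _ _ _ _ _ _ (fun _ => rfl) (by
      rintro (i | i | i) <;> [skip; skip; fin_cases i] <;> simp [g₁, g₃, cC]) f⟩
    end04 := ⟨Sum.elim ct fun _ => 0, fun _ => 0, fun f => eval_ext s t c K _ _ _ _ _ _ (fun k => map_k K s k) (by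
      rintro (i | i | i) <;> [skip; skip; fin_cases i] <;> simp [g₀, g₄, ct]) f⟩
    end14 := ⟨Sum.elim cs fun _ => 0, fun _ => 1, fun f => eval_ext s t c K _ _ _ _ _ _ (fun k => map_k K t k) (by
      rintro (i | i | i) <;> [skip; skip; fin_cases i] <;> simp [g₁, g₄, cs]) f⟩
    no01 := fun L _ ψ ψ' e => by
      have := RingHom.congr_fun e (1 ⊗ₜ[A] Ideal.Quotient.mk _ (X (Sum.inr (Sum.inr 0))))
      simp [h₀, h₁, sheet_p, g₀, g₁] at this
    no34 := fun L _ ψ ψ' e => by
      have := RingHom.congr_fun e (1 ⊗ₜ[A] Ideal.Quotient.mk _ (X (Sum.inr (Sum.inr 1))))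
      simp [h₃, h₄, sheet_p, g₃, g₄] at this
    eq03 := fun L _ ψ ψ' e => RingHom.congr_fun (hom_ext c hc K (φ := ψ.comp MvPolynomial.C)
      (φ' := ψ'.comp MvPolynomial.C)
      (fun k => ((kk ψ k).trans (RingHom.congr_fun e _)).trans (kk ψ' k).symm) fun i =>
        ((cc ψ (p := X (Sum.inl i)) (by simp [g₀])).trans (RingHom.congr_fun e _)).trans (cc ψ' (by simp [g₃])).symm)
    eq13 := fun L _ ψ ψ' e => RingHom.congr_fun (hom_ext c hc K (φ := ψ.comp MvPolynomial.C)
      (φ' := ψ'.comp MvPolynomial.C)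
      (fun k => ((kk ψ k).trans (RingHom.congr_fun e _)).trans (kk ψ' k).symm) fun i =>
        ((cc ψ (p := X (Sum.inr (Sum.inl i))) (by simp [g₁])).trans (RingHom.congr_fun e _)).trans
          (cc ψ' (by simp [g₃])).symm)
    eq04 := fun L _ ψ ψ' e => RingHom.congr_fun (hom_ext c hc K (φ := ψ.comp MvPolynomial.C)
      (φ' := (ψ'.comp MvPolynomial.C).comp (Algebra.TensorProduct.map (AlgHom.id A K) s).toRingHom)
      (fun k => ((kk ψ k).trans (RingHom.congr_fun e _)).trans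
        ((kk ψ' k).symm.trans (congrArg (fun z => ψ' (MvPolynomial.C z)) (map_k K s k).symm))) fun i =>
        ((cc ψ (p := X (Sum.inl i)) (by simp [g₀])).trans (RingHom.congr_fun e _)).trans
          ((cc ψ' (by simp [g₄])).symm.trans rfl))
    eq14 := fun L _ ψ ψ' e => RingHom.congr_fun (hom_ext c hc K (φ := ψ.comp MvPolynomial.C)
      (φ' := (ψ'.comp MvPolynomial.C).comp (Algebra.TensorProduct.map (AlgHom.id A K) t).toRingHom)
      (fun k => ((kk ψ k).trans (RingHom.congr_fun e _)).trans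
        ((kk ψ' k).symm.trans (congrArg (fun z => ψ' (MvPolynomial.C z)) (map_k K t k).symm))) fun i =>
        ((cc ψ (p := X (Sum.inr (Sum.inl i))) (by simp [g₁])).trans (RingHom.congr_fun e _)).trans
          ((cc ψ' (by simp [g₄])).symm.trans rfl)) }⟩

end Groth.L21.ConnFam

namespace Groth.L21.ConnFam
attribute [local instance 2000] Algebra.TensorProduct.instCommRing

variable {A C D : Type u} [CommRing A] [CommRing C] [CommRing D] [Algebra A C] [Algebra A D] (s t : C →ₐ[A] D)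

/-- A finitely presented algebra detecting over fields the connectedness of the coequaliser. -/
theorem exists_detect [Algebra.FinitePresentation A C] [Algebra.FinitePresentation A D]
    (hgen : Algebra.adjoin A (Set.range s ∪ Set.range t) = ⊤) :
    ∃ (E : Type u) (_ : CommRing E) (_ : Algebra A E), Algebra.FinitePresentation A E ∧
      ∀ (K : Type u) [Field K] [Algebra A K], ConnectedSpace (PrimeSpectrum (K ⊗[A] E)) ↔ CoeqConn s t K := by
  obtain ⟨S, hS⟩ := (inferInstance : Algebra.FiniteType A C).out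
  let c : Fin S.card → C := fun i => (S.equivFin.symm i).1
  have hc : Algebra.adjoin A (Set.range c) = ⊤ := by
    rw [← hS]
    congr 1
    ext x
    exact ⟨fun ⟨i, hi⟩ => hi ▸ (S.equivFin.symm i).2, fun hx => ⟨S.equivFin ⟨x, hx⟩, by simp [c]⟩⟩
  refine ⟨Tot s t c, inferInstance, inferInstance, finitePresentation_tot s t c hc hgen, fun K _ _ => ?_⟩
  obtain ⟨G⟩ := nonempty_sheets s t c hc K hgen
  exact ⟨fun h => G.of_connectedSpace h, fun h => G.connectedSpace h.1 h.2⟩

end Groth.L21.ConnFam
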