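import Groth.Agent.L21.ConnFam.Coeq
import Groth.Agent.L07.Count.Constr
import Groth.Agent.L07.Count.GeomConn

/-!
Constructibility of the points with connected geometric coequaliser.
-/

set_option autoImplicit false
set_option linter.style.haveILetI false
set_option backward.isDefEq.respectTransparency false
set_option backward.isDefEq.respectTransparency.types false

universe u

open CategoryTheory CategoryTheory.Limits AlgebraicGeometry TensorProduct

noncomputable section

namespace Groth.L21.ConnFam

variable {A C D : Type u} [CommRing A] [CommRing C] [CommRing D] [Algebra A C] [Algebra A D] (s t : C →ₐ[A] D)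

/-- The points over which the coequaliser is geometrically connected form a constructible set. -/
theorem exists_isConstructible [Algebra.FinitePresentation A C] [Algebra.FinitePresentation A D]
    (hgen : Algebra.adjoin A (Set.range s ∪ Set.range t) = ⊤) :
    ∃ O : Set (PrimeSpectrum A), Topology.IsConstructible O ∧
      ∀ (K : Type u) [Field K] [IsAlgClosed K] [Algebra A K],
        CoeqConn s t K ↔ (⟨RingHom.ker (algebraMap A K), RingHom.ker_isPrime _⟩ : PrimeSpectrum A) ∈ O := by
  obtain ⟨E, _, _, hE, hconn⟩ := exists_detect s t hgen
  let f := Spec.map (CommRingCat.ofHom (algebraMap A E))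
  haveI : LocallyOfFinitePresentation f := by
    rw [HasRingHomProperty.Spec_iff (P := @LocallyOfFinitePresentation)]
    exact RingHom.finitePresentation_algebraMap.mpr hE
  refine ⟨Groth.L07.Count.nPair f ⁻¹' {p | p.1 = 1},
    Groth.L07.Count.isConstructible_nPair_of_affine f _, fun K _ _ _ => ?_⟩
  let g := Spec.map (CommRingCat.ofHom (algebraMap A K))
  let y : PrimeSpectrum A := ⟨RingHom.ker (algebraMap A K), RingHom.ker_isPrime _⟩
  have hg : ∀ z, g z = y := fun z => PrimeSpectrum.ext (by
    show z.asIdeal.comap (algebraMap A K) = RingHom.ker (algebraMap A K)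
    rw [(Ideal.eq_bot_or_top z.asIdeal).resolve_right z.isPrime.ne_top]
    rfl)
  show CoeqConn s t K ↔ MoreMor.nGeomConnComp f y = 1
  rw [Groth.L07.Count.nGeomConnComp_eq f K g y hg, Groth.L07.Count.nConn_congr
    (pullbackSymmetry f g ≪≫ pullbackSpecIso A K E), Groth.L07.Count.nConn_eq_one_iff]
  exact (hconn K).symm

end Groth.L21.ConnFam
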