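import Groth.Agent.L21.OpenSt.Bridge

/-!
Open substacks of the stack of curves cut out by conditions on the geometric fibres.
-/

set_option autoImplicit false
set_option linter.style.haveILetI false
set_option backward.isDefEq.respectTransparency false
set_option backward.isDefEq.respectTransparency.types false

universe u

open CategoryTheory CategoryTheory.Limits AlgebraicGeometry AlgSp

noncomputable section

namespace Groth.L21.ConnFam

variable {S : Scheme.{u}} {n : ℕ}

/-- A geometric fibre of the source of a cartesian square is one of the target. -/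
theorem exists_square_comp {A B : CurvSt.SpFamObj S n} (m : A ⟶ B) {Ω : Type u} [Field Ω]
    {t : Spec (CommRingCat.of Ω) ⟶ A.base.left} {X' : Scheme.{u}} {q : X' ⟶ Spec (CommRingCat.of Ω)}
    {i : (AlgSp.yon S).obj (A.ptOver (q ≫ t)) ⟶ A.X}
    (hP : IsPullback i ((AlgSp.yon S).map (A.fibHom t q)) A.f ((AlgSp.yon S).map (A.ptHom t))) :
    ∃ i' : (AlgSp.yon S).obj (B.ptOver (q ≫ t ≫ m.base.left)) ⟶ B.X,
      IsPullback i' ((AlgSp.yon S).map (B.fibHom (t ≫ m.base.left) q)) B.f
        ((AlgSp.yon S).map (B.ptHom (t ≫ m.base.left))) := by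
  let e₁ : A.ptOver (q ≫ t) ≅ B.ptOver (q ≫ t ≫ m.base.left) := Over.isoMk (Iso.refl _) (by
    show 𝟙 _ ≫ (q ≫ t ≫ m.base.left) ≫ B.base.hom = (q ≫ t) ≫ A.base.hom
    rw [Category.id_comp, ← Over.w m.base]
    simp only [Category.assoc])
  let e₂ : A.ptOver t ≅ B.ptOver (t ≫ m.base.left) := Over.isoMk (Iso.refl _) (by
    show 𝟙 _ ≫ (t ≫ m.base.left) ≫ B.base.hom = t ≫ A.base.hom
    rw [Category.id_comp, ← Over.w m.base]
    simp only [Category.assoc])
  refine ⟨(AlgSp.yon S).map e₁.inv ≫ i ≫ m.top, (hP.paste_horiz m.cart).of_iso ((AlgSp.yon S).mapIso e₁)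
    (Iso.refl _) ((AlgSp.yon S).mapIso e₂) (Iso.refl _) ?_ ?_ ?_ ?_⟩
  · simp [← Functor.map_comp_assoc]
  · simp only [Functor.mapIso_hom, ← Functor.map_comp]
    congr 1
  · simp
  · simp only [Functor.mapIso_hom, Iso.refl_hom, Category.comp_id, ← Functor.map_comp]
    congr 1

/-- A condition on geometric fibres whose locus in the base is open cuts out an open substack. -/
theorem isOpenSubstack_of_fibreLocus
    (P : ∀ (Ω : Type u) [Field Ω] [IsAlgClosed Ω] (X' : Scheme.{u}), (X' ⟶ Spec (CommRingCat.of Ω)) → Prop)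
    (hC : AlgSt.IsAlgStack Scheme.fppfPrecoverage (CurvSt.Curves S 0))
    (hO : ∀ B : (CurvSt.Curves S 0).obj, ∃ O : B.obj.base.left.Opens,
      ∀ (Ω : Type u) [Field Ω] [IsAlgClosed Ω] (t : Spec (CommRingCat.of Ω) ⟶ B.obj.base.left) (X' : Scheme.{u})
        (q : X' ⟶ Spec (CommRingCat.of Ω)) (i : (AlgSp.yon S).obj (B.obj.ptOver (q ≫ t)) ⟶ B.obj.X),
        IsPullback i ((AlgSp.yon S).map (B.obj.fibHom t q)) B.obj.f ((AlgSp.yon S).map (B.obj.ptHom t)) →
          (P Ω X' q ↔ t default ∈ O))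
    {Q : (CurvSt.Curves S 0).obj → Prop}
    (hQ : ∀ A, Q A ↔ CurvSt.GeomFib (fun Ω _ _ X' q _ => P Ω X' q) A.obj) :
    AlgSt.IsOpenSubstack (CurvSt.Curves S 0) Q Scheme.fppfPrecoverage := by
  have hloc : ∀ B : (CurvSt.Curves S 0).obj, ∃ O : B.obj.base.left.Opens,
      ∀ (A : (CurvSt.Curves S 0).obj) (m : A ⟶ B), Q A ↔ ∀ t, m.hom.base.left t ∈ O := fun B => by
    obtain ⟨O, hO⟩ := hO B
    refine ⟨O, fun A m => (hQ A).trans ⟨fun h s => ?_, fun h Ω _ _ t X' q i hP => ?_⟩⟩
    · let Ω := AlgebraicClosure (A.obj.base.left.residueField s)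
      let t : Spec (CommRingCat.of Ω) ⟶ A.obj.base.left :=
        Spec.map (CommRingCat.ofHom (algebraMap (A.obj.base.left.residueField s) Ω)) ≫
          A.obj.base.left.fromSpecResidueField s
      obtain ⟨X', q, i, hP⟩ := Groth.L21.CurveScheme.exists_geomFibre A.obj A.property Ω t
      obtain ⟨i', hP'⟩ := exists_square_comp m.hom hP
      have := (hO Ω _ X' q i' hP').1 (h Ω t X' q i hP)
      rw [Scheme.Hom.comp_apply, Scheme.Hom.comp_apply] at this
      exact (Scheme.fromSpecResidueField_apply (X := A.obj.base.left) s _) ▸ this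
    · obtain ⟨i', hP'⟩ := exists_square_comp m.hom hP
      refine (hO Ω _ X' q i' hP').2 ?_
      rw [Scheme.Hom.comp_apply]
      exact h _
  refine Groth.L21.OpenSt.isOpenSubstack_of_chart hC (fun A B m hB => ?_) fun U y => ?_
  · obtain ⟨O, hO⟩ := hloc B
    exact (hO A m).2 fun t => (hO B (𝟙 B)).1 hB (m.hom.base.left t)
  · let idU : (FibCat.overCat U).obj := Over.mk (𝟙 U)
    have hb0 : (y.obj idU).obj.base = U := y.w_obj idU
    obtain ⟨O, hO⟩ := hloc (y.obj idU)
    let i : U ⟶ (y.obj idU).obj.base := eqToHom hb0.symm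
    refine ⟨i.left ⁻¹ᵁ O, fun a => ?_⟩
    let m : a ⟶ idU := Over.homMk a.hom (Category.comp_id _)
    have hh : (FibCat.overCat U).p.IsHomLift a.hom m :=
      @Functor.IsHomLift.map _ _ _ _ (FibCat.overCat U).p _ _ m
    have := @BasedFunctor.preserves_isHomLift _ _ _ _ y _ _ _ _ _ m hh
    have e : (y.map m).hom.base = eqToHom (y.w_obj a) ≫ a.hom ≫ i :=
      IsHomLift.fac' (CurvSt.Curves S 0).p a.hom (y.map m)
    have ha : (y.obj a).obj.base = a.left := y.w_obj a
    rw [hO (y.obj a) (y.map m), e]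
    constructor
    · intro h v
      have := h ((eqToHom ha.symm : a.left ⟶ _).left v)
      rw [← Scheme.Hom.comp_apply, ← Over.comp_left] at this
      simp only [eqToHom_trans_assoc, eqToHom_refl, Category.id_comp] at this
      exact this
    · intro h t
      exact h ((eqToHom ha : _ ⟶ a.left).left t)

end Groth.L21.ConnFam
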