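import Groth.Agent.L21.ConnFam.Lift
import Groth.Agent.L21.ConnFam.Constr
import Mathlib.RingTheory.Valuation.LocalSubring
import Mathlib.RingTheory.Spectrum.Prime.ConstructibleSet

/-!
Connectedness of a geometric coequaliser is inherited by generisations.
-/

set_option autoImplicit false
set_option linter.style.haveILetI false
set_option backward.isDefEq.respectTransparency false
set_option backward.isDefEq.respectTransparency.types false

universe u

open CategoryTheory CategoryTheory.Limits AlgebraicGeometry TensorProduct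

noncomputable section

namespace Groth.L21.ConnFam

open Groth.L21.OpenSt

variable {A C D : Type u} [CommRing A] [CommRing C] [CommRing D] [Algebra A C] [Algebra A D] (s t : C →ₐ[A] D)

/-- Invariant functions cutting out a piece away from the closed fibre vanish. -/
def ProperPair : Prop :=
  ∀ (V : Type u) [CommRing V] [IsDomain V] [IsLocalRing V] [Algebra A V] (d : V ⊗[A] C), IsIdempotentElem d →
    Algebra.TensorProduct.map (AlgHom.id A V) s d = Algebra.TensorProduct.map (AlgHom.id A V) t d →
      (∀ q : Ideal (V ⊗[A] C), q.IsPrime →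
        q.comap (Algebra.TensorProduct.includeLeftRingHom : V →+* V ⊗[A] C) = IsLocalRing.maximalIdeal V → d ∈ q) →
      d = 0

theorem exists_valuationSubring_center {K : Type u} [Field K] [Algebra A K] (P : Ideal A) [P.IsPrime]
    (hP : RingHom.ker (algebraMap A K) ≤ P) :
    ∃ V : ValuationSubring K, ∃ _ : Algebra A V, IsScalarTower A V K ∧
      (IsLocalRing.maximalIdeal V).comap (algebraMap A V) = P := by
  let φ : Localization.AtPrime P →+* K := IsLocalization.lift (M := P.primeCompl) (g := algebraMap A K)
    fun f => isUnit_iff_ne_zero.2 fun h => f.2 (hP h)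
  have hφ : ∀ a, φ (algebraMap A _ a) = algebraMap A K a := fun a => IsLocalization.lift_eq _ a
  obtain ⟨V, hle, hloc⟩ := (LocalSubring.range φ).exists_le_valuationSubring
  have hmem : ∀ a, algebraMap A K a ∈ V := fun a => hle ⟨algebraMap A _ a, hφ a⟩
  letI : Algebra A V := ((algebraMap A K).codRestrict V hmem).toAlgebra
  refine ⟨V, inferInstance, IsScalarTower.of_algebraMap_eq fun _ => rfl, le_antisymm (fun a ha => ?_) fun a ha => ?_⟩
  · by_contra hna
    have hu : IsUnit (algebraMap A (Localization.AtPrime P) a) :=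
      IsLocalization.map_units _ (⟨a, hna⟩ : P.primeCompl)
    have hu' := (hu.map φ.rangeRestrict).map (Subring.inclusion hle)
    apply ha
    obtain ⟨y, hy⟩ := isUnit_iff_exists_inv.1 hu'
    refine isUnit_iff_exists_inv.2 ⟨⟨y.1, y.2⟩, Subtype.ext ?_⟩
    have := congrArg Subtype.val hy
    show algebraMap A K a * y.1 = 1
    rw [← hφ a]
    exact this
  · intro hu
    haveI := hloc
    have hu' : IsUnit (φ.rangeRestrict (algebraMap A _ a)) := by
      refine isUnit_of_map_unit (Subring.inclusion hle) _ ?_
      obtain ⟨y, hy⟩ := isUnit_iff_exists_inv.1 hu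
      refine isUnit_iff_exists_inv.2 ⟨⟨y.1, y.2⟩, Subtype.ext ?_⟩
      show φ (algebraMap A _ a) * y.1 = 1
      rw [hφ a]
      exact congrArg Subtype.val hy
    obtain ⟨v, hv⟩ := φ.rangeRestrict_surjective (↑hu'.unit⁻¹)
    obtain ⟨⟨b, f⟩, hbf⟩ := IsLocalization.surj P.primeCompl v
    have h1 : φ v * algebraMap A K a = 1 := by
      have h := hu'.val_inv_mul
      rw [← hv] at h
      rw [← hφ a]
      exact congrArg Subtype.val h
    have h2 : algebraMap A K (b * a - f) = 0 := by
      have h3 : φ (v * algebraMap A _ (f : A)) = φ (algebraMap A _ b) := congrArg φ hbf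
      rw [map_mul, hφ, hφ] at h3
      rw [map_sub, map_mul, ← h3, mul_right_comm, h1, one_mul, sub_self]
    exact f.2 (by simpa using P.sub_mem (P.mul_mem_left b ha) (hP h2))

/-- Connectedness of the coequaliser at a geometric point passes to generisations. -/
theorem coeqConn_of_le [Module.Flat A C] [Module.Flat A D] [Algebra.FinitePresentation A C]
    (hred : ∀ x, redCond (Spec.map (CommRingCat.ofHom (algebraMap A C))) x) (hprop : ProperPair s t)
    (K : Type u) [Field K] [Algebra A K] (P : Ideal A) [P.IsPrime] (hP : RingHom.ker (algebraMap A K) ≤ P)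
    (h : ∀ (k : Type u) [Field k] [IsAlgClosed k] [Algebra A k], RingHom.ker (algebraMap A k) = P → CoeqConn s t k) :
    CoeqConn s t K := by
  obtain ⟨V, _, _, hV⟩ := exists_valuationSubring_center P hP
  let k := AlgebraicClosure (IsLocalRing.ResidueField V)
  letI : Algebra A k := ((algebraMap (IsLocalRing.ResidueField V) k).comp
    ((IsLocalRing.residue V).comp (algebraMap A V))).toAlgebra
  let ρ : V →ₐ[A] k := { (algebraMap (IsLocalRing.ResidueField V) k).comp (IsLocalRing.residue V) with
    commutes' := fun _ => rfl }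
  have hρ : ∀ v, ρ v = 0 ↔ v ∈ IsLocalRing.maximalIdeal V := fun v => by
    show algebraMap (IsLocalRing.ResidueField V) k _ = 0 ↔ _
    rw [map_eq_zero, IsLocalRing.residue_eq_zero_iff]
  have hk : RingHom.ker (algebraMap A k) = P := by
    ext a
    show ρ (algebraMap A V a) = 0 ↔ _
    rw [hρ, ← hV]
    rfl
  obtain ⟨hnt, hidem⟩ := h k hk
  -- generic and special maps
  let ιK : V →ₐ[A] K := IsScalarTower.toAlgHom A V K
  have hιK : Function.Injective ιK := Subtype.val_injective
  let gC := Algebra.TensorProduct.map ιK (AlgHom.id A C)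
  let gD := Algebra.TensorProduct.map ιK (AlgHom.id A D)
  have hgC : Function.Injective gC := Module.Flat.rTensor_preserves_injective_linearMap (M := C) ιK.toLinearMap hιK
  have hgD : Function.Injective gD := Module.Flat.rTensor_preserves_injective_linearMap (M := D) ιK.toLinearMap hιK
  let rC := Algebra.TensorProduct.map ρ (AlgHom.id A C)
  have nat : ∀ (L : Type u) [CommRing L] [Algebra A L] (j : V →ₐ[A] L) (u : C →ₐ[A] D) (x : V ⊗[A] C),
      Algebra.TensorProduct.map j (AlgHom.id A D) (Algebra.TensorProduct.map (AlgHom.id A V) u x) =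
        Algebra.TensorProduct.map (AlgHom.id A L) u (Algebra.TensorProduct.map j (AlgHom.id A C) x) := by
    intro L _ _ j u x
    induction x using TensorProduct.induction_on with
    | zero => simp
    | tmul a b => rfl
    | add a b ha hb => rw [map_add, map_add, map_add, map_add, ha, hb]
  refine ⟨?_, fun e he hinv => ?_⟩
  · by_contra hK
    rw [not_nontrivial_iff_subsingleton] at hK
    haveI : Subsingleton (V ⊗[A] C) := hgC.subsingleton
    exact one_ne_zero (α := k ⊗[A] C) ((map_one rC).symm.trans
      ((congrArg rC (Subsingleton.elim (1 : V ⊗[A] C) 0)).trans (map_zero rC)))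
  -- a denominator
  have hden : ∀ z : K ⊗[A] C, ∃ a : V, a ≠ 0 ∧ ∃ c, gC c = (a : K) • z := by
    intro z
    induction z using TensorProduct.induction_on with
    | zero => exact ⟨1, one_ne_zero, 0, by simp⟩
    | tmul x y =>
      obtain ⟨⟨v, a⟩, hva⟩ := IsLocalization.surj (nonZeroDivisors V) x
      refine ⟨a, nonZeroDivisors.coe_ne_zero a, v ⊗ₜ y, ?_⟩
      show ιK v ⊗ₜ[A] y = (a.1 : K) • (x ⊗ₜ[A] y)
      rw [TensorProduct.smul_tmul', smul_eq_mul, mul_comm]
      exact congrArg (· ⊗ₜ[A] y) hva.symm
    | add x y hx hy =>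
      obtain ⟨a, ha, c, hc⟩ := hx
      obtain ⟨b, hb, d, hd⟩ := hy
      refine ⟨a * b, mul_ne_zero ha hb, (b ⊗ₜ 1) * c + (a ⊗ₜ 1) * d, ?_⟩
      have hs : ∀ (v : V) (z : V ⊗[A] C), gC ((v ⊗ₜ 1) * z) = (v : K) • gC z := fun v z => by
        rw [map_mul, Algebra.smul_def]
        rfl
      rw [map_add, hs, hs, hc, hd, smul_add, smul_smul, smul_smul]
      congr 2 <;> push_cast <;> ring
  obtain ⟨a, ha, c, hc⟩ := hden e
  have hgs : ∀ (v : V) (z : V ⊗[A] C), gC (v • z) = (v : K) • gC z := fun v z => by
    rw [Algebra.smul_def, map_mul, Algebra.smul_def]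
    rfl
  have hcc : c * c = a • c := hgC (by
    rw [map_mul, hgs, hc, smul_mul_smul_comm, he.eq, smul_smul])
  haveI : Flat (Spec.map (CommRingCat.ofHom (algebraMap A C))) := by
    rw [HasRingHomProperty.Spec_iff (P := @Flat)]
    exact RingHom.flat_algebraMap_iff.mpr inferInstance
  haveI : LocallyOfFinitePresentation (Spec.map (CommRingCat.ofHom (algebraMap A C))) := by
    rw [HasRingHomProperty.Spec_iff (P := @LocallyOfFinitePresentation)]
    exact RingHom.finitePresentation_algebraMap.mpr inferInstance
  obtain ⟨d, hd⟩ := exists_smul_eq (R := V) (C := V ⊗[A] C)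
    (fun x => (redCond_good.baseChange (isPullback_tensor A V C) x).2 (hred _)) ha hcc
  have hde : gC d = e := by
    have h1 : (a : K) • gC d = (a : K) • e := by rw [← hgs, ← hd, hc]
    have ha' : (a : K) ≠ 0 := fun h => ha (Subtype.ext h)
    simpa [smul_smul, inv_mul_cancel₀ ha'] using congrArg (fun z => (a : K)⁻¹ • z) h1
  have hd2 : IsIdempotentElem d := hgC (by rw [map_mul, hde, he.eq])
  have hdinv : Algebra.TensorProduct.map (AlgHom.id A V) s d = Algebra.TensorProduct.map (AlgHom.id A V) t d :=
    hgD (by rw [nat, nat]; show Algebra.TensorProduct.map _ s (gC d) = Algebra.TensorProduct.map _ t (gC d); rw [hde]; exact hinv)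
  have key : ∀ d' : V ⊗[A] C, IsIdempotentElem d' →
      Algebra.TensorProduct.map (AlgHom.id A V) s d' = Algebra.TensorProduct.map (AlgHom.id A V) t d' →
      rC d' = 0 → d' = 0 := by
    intro d' hd' hinv' h0
    refine hprop V d' hd' hinv' fun q hq hqm => ?_
    -- lift the point to the geometric closed fibre
    have sqV := isPullback_tensor A V C
    have sqk := isPullback_tensor A k C
    have hcomp : Spec.map (CommRingCat.ofHom ρ.toRingHom) ≫ Spec.map (CommRingCat.ofHom (algebraMap A V)) =
        Spec.map (CommRingCat.ofHom (algebraMap A k)) := by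
      rw [← Spec.map_comp]
      rfl
    have sq' : IsPullback (Spec.map (CommRingCat.ofHom rC.toRingHom))
        (Spec.map (CommRingCat.ofHom (Algebra.TensorProduct.includeLeftRingHom : k →+* k ⊗[A] C)))
        (Spec.map (CommRingCat.ofHom (Algebra.TensorProduct.includeLeftRingHom : V →+* V ⊗[A] C)))
        (Spec.map (CommRingCat.ofHom ρ.toRingHom)) := by
      refine IsPullback.of_right ?_ ?_ sqV
      · rw [hcomp, ← Spec.map_comp, ← CommRingCat.ofHom_comp]
        convert sqk using 3
        exact congrArg AlgHom.toRingHom (Algebra.TensorProduct.map_comp_includeRight ρ (AlgHom.id A C))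
      · rw [← Spec.map_comp, ← Spec.map_comp, ← CommRingCat.ofHom_comp, ← CommRingCat.ofHom_comp]
        congr 2
        
    let q' : PrimeSpectrum (V ⊗[A] C) := ⟨q, hq⟩
    let z : PrimeSpectrum k := ⟨⊥, Ideal.isPrime_bot⟩
    obtain ⟨w, hw, -⟩ := Scheme.Pullback.exists_preimage_pullback
      (f := Spec.map (CommRingCat.ofHom (Algebra.TensorProduct.includeLeftRingHom : V →+* V ⊗[A] C)))
      (g := Spec.map (CommRingCat.ofHom ρ.toRingHom)) q' z (PrimeSpectrum.ext (by
        show q.comap (Algebra.TensorProduct.includeLeftRingHom : V →+* V ⊗[A] C) = (⊥ : Ideal k).comap ρ.toRingHom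
        rw [hqm]
        ext v
        exact (hρ v).symm))
    let w' : PrimeSpectrum (k ⊗[A] C) := sq'.isoPullback.inv w
    have hw' : Spec.map (CommRingCat.ofHom rC.toRingHom) w' = q' := by
      rw [← hw, ← Scheme.Hom.comp_apply, sq'.isoPullback_inv_fst]
    rw [show q = (PrimeSpectrum.comap rC.toRingHom w').asIdeal from (congrArg PrimeSpectrum.asIdeal hw').symm]
    show rC d' ∈ w'.asIdeal
    rw [h0]
    exact w'.asIdeal.zero_mem
  rcases hidem (rC d) (hd2.map rC) (by rw [← nat, ← nat, hdinv]) with h0 | h1
  · left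
    rw [← hde, key d hd2 hdinv h0, map_zero]
  · right
    have := key (1 - d) hd2.one_sub (by rw [map_sub, map_sub, map_one, map_one, hdinv])
      (by rw [map_sub, map_one, h1, sub_self])
    rw [← hde, (sub_eq_zero.1 this).symm, map_one]

/-- The points with connected geometric coequaliser form an open set. -/
theorem exists_opens [Module.Flat A C] [Module.Flat A D] [Algebra.FinitePresentation A C]
    [Algebra.FinitePresentation A D] (hgen : Algebra.adjoin A (Set.range s ∪ Set.range t) = ⊤)
    (hred : ∀ x, redCond (Spec.map (CommRingCat.ofHom (algebraMap A C))) x) (hprop : ProperPair s t) :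
    ∃ O : TopologicalSpace.Opens (PrimeSpectrum A), ∀ (K : Type u) [Field K] [IsAlgClosed K] [Algebra A K],
      CoeqConn s t K ↔ (⟨RingHom.ker (algebraMap A K), RingHom.ker_isPrime _⟩ : PrimeSpectrum A) ∈ O := by
  obtain ⟨O, hO, hOK⟩ := exists_isConstructible s t hgen
  refine ⟨⟨O, PrimeSpectrum.isOpen_of_stableUnderGeneralization_of_isConstructible ?_ hO⟩, hOK⟩
  intro y₀ y₁ hle hy
  let K := AlgebraicClosure y₁.asIdeal.ResidueField
  have hker : RingHom.ker (algebraMap A K) = y₁.asIdeal := by
    ext a
    rw [RingHom.mem_ker, IsScalarTower.algebraMap_apply A y₁.asIdeal.ResidueField K, map_eq_zero,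
      Ideal.algebraMap_residueField_eq_zero]
  have hconn : CoeqConn s t K := by
    refine coeqConn_of_le s t hred hprop K y₀.asIdeal (hker.le.trans ((PrimeSpectrum.le_iff_specializes y₁ y₀).2 hle)) ?_
    intro k _ _ _ hk
    refine (hOK k).2 ?_
    convert hy
  have := (hOK K).1 hconn
  convert this using 1
  exact PrimeSpectrum.ext hker.symm

end Groth.L21.ConnFam
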