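import Groth.Agent.L21.OpenSt.RedCond
import Groth.Agent.L06.DescendFiniteTypeInt
import Groth.Agent.L07.FlatVal.NagataInt
import Groth.Agent.L01.NormalDomain
import Mathlib.RingTheory.LocalRing.ResidueField.Ideal
import Mathlib.AlgebraicGeometry.Pullbacks

/-!
Idempotents of flat algebras with geometrically reduced fibres over normal domains have no denominators.
-/

set_option autoImplicit false
set_option linter.style.haveILetI false
set_option backward.isDefEq.respectTransparency false
set_option backward.isDefEq.respectTransparency.types false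

universe u

open CategoryTheory CategoryTheory.Limits AlgebraicGeometry TensorProduct

noncomputable section

namespace Groth.L21.ConnFam

open Groth.L21.OpenSt

/-- The fibres are reduced, elementwise. -/
def RedFib (R C : Type u) [CommRing R] [CommRing C] [Algebra R C] : Prop :=
  ∀ P : Ideal R, P.IsPrime → ∀ x : C, x * x ∈ P.map (algebraMap R C) →
    ∃ s ∉ P, s • x ∈ P.map (algebraMap R C)

variable {R C : Type u} [CommRing R] [CommRing C] [Algebra R C]

theorem exists_kill {P : Ideal R} [P.IsPrime] (x : C) (h : (1 : P.ResidueField) ⊗ₜ[R] x = 0) :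
    ∃ s ∉ P, s • x ∈ P.map (algebraMap R C) := by
  let κ := P.ResidueField
  let M := C ⧸ P.map (algebraMap R C)
  letI : Algebra (R ⧸ P) M := (Ideal.quotientMap (P.map (algebraMap R C)) (algebraMap R C) Ideal.le_comap_map).toAlgebra
  haveI : IsScalarTower R (R ⧸ P) M := IsScalarTower.of_algebraMap_eq fun _ => rfl
  haveI : IsLocalizedModule (nonZeroDivisors (R ⧸ P)) (TensorProduct.mk (R ⧸ P) κ M 1) :=
    (isLocalizedModule_iff_isBaseChange (nonZeroDivisors (R ⧸ P)) κ _).2 (TensorProduct.isBaseChange _ _ _)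
  let q : C →ₐ[R] M := Ideal.Quotient.mkₐ R _
  have h1 : TensorProduct.mk (R ⧸ P) κ M 1 (q x) = 0 := by
    have := congrArg (TensorProduct.lift
      ({ toFun := fun a => ((TensorProduct.mk (R ⧸ P) κ M a).restrictScalars R).comp q.toLinearMap
         map_add' := fun a b => by ext; simp [TensorProduct.add_tmul]
         map_smul' := fun r a => by ext; simp [TensorProduct.smul_tmul'] } :
        κ →ₗ[R] C →ₗ[R] κ ⊗[R ⧸ P] M)) h
    simpa using this
  obtain ⟨⟨s, hs⟩, hsx⟩ := (IsLocalizedModule.eq_zero_iff (nonZeroDivisors (R ⧸ P)) _).1 h1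
  obtain ⟨r, rfl⟩ := Ideal.Quotient.mk_surjective s
  refine ⟨r, fun hr => nonZeroDivisors.ne_zero hs (Ideal.Quotient.eq_zero_iff_mem.2 hr), ?_⟩
  rw [← Ideal.Quotient.eq_zero_iff_mem]
  show q (r • x) = 0
  rw [map_smul]
  exact (IsScalarTower.algebraMap_smul (R ⧸ P) r (q x)).symm.trans hsx

theorem isPullback_tensor (R A B : Type u) [CommRing R] [CommRing A] [CommRing B] [Algebra R A] [Algebra R B] :
    IsPullback (Spec.map (CommRingCat.ofHom (Algebra.TensorProduct.includeRight : B →ₐ[R] A ⊗[R] B).toRingHom))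
      (Spec.map (CommRingCat.ofHom (Algebra.TensorProduct.includeLeftRingHom : A →+* A ⊗[R] B)))
      (Spec.map (CommRingCat.ofHom (algebraMap R B))) (Spec.map (CommRingCat.ofHom (algebraMap R A))) :=
  (isPullback_SpecMap_of_isPushout _ _ _ _ (CommRingCat.isPushout_tensorProduct R A B)).flip

theorem redFib_of_redCond
    (h : ∀ x, redCond (Spec.map (CommRingCat.ofHom (algebraMap R C))) x) : RedFib R C := by
  intro P hP x hx
  haveI := hP
  refine exists_kill x ?_
  let K := AlgebraicClosure P.ResidueField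
  haveI : _root_.IsReduced (K ⊗[R] C) := by
    haveI : ∀ z, _root_.IsReduced ((Spec (CommRingCat.of (K ⊗[R] C))).presheaf.stalk z) := fun z =>
      redCond_isPullback (h _) (isPullback_tensor R K C) z rfl
    haveI : IsReduced (Spec (CommRingCat.of (K ⊗[R] C))) := isReduced_of_isReduced_stalk _
    exact (affine_isReduced_iff (CommRingCat.of (K ⊗[R] C))).1 inferInstance
  let φ : P.ResidueField →ₐ[R] K := IsScalarTower.toAlgHom R P.ResidueField K
  have hinj : Function.Injective (Algebra.TensorProduct.map φ (AlgHom.id R C)) := by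
    haveI : Module.FaithfullyFlat P.ResidueField K := inferInstance
    let e := Algebra.TensorProduct.cancelBaseChange R P.ResidueField P.ResidueField K C
    have hj := Algebra.TensorProduct.includeRight_injective (A := K) (B := P.ResidueField ⊗[R] C)
      (R := P.ResidueField) (algebraMap P.ResidueField K).injective
    have : ∀ z, Algebra.TensorProduct.map φ (AlgHom.id R C) z = e ((1 : K) ⊗ₜ z) := fun z => by
      induction z using TensorProduct.induction_on with
      | zero => simp
      | tmul a b => simp [e, φ, Algebra.smul_def]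
      | add a b ha hb => rw [TensorProduct.tmul_add, map_add, map_add, ha, hb]
    intro z z' hz
    rw [this, this] at hz
    exact hj (e.injective hz)
  refine hinj ((IsReduced.eq_zero _ ⟨2, ?_⟩).trans (map_zero _).symm)
  rw [pow_two, ← map_mul, Algebra.TensorProduct.tmul_mul_tmul, one_mul]
  suffices h0 : (1 : P.ResidueField) ⊗ₜ[R] (x * x) = 0 by rw [h0, map_zero]
  generalize x * x = y at hx ⊢
  rw [Ideal.map] at hx
  induction hx using Submodule.span_induction with
  | mem y hy =>
    obtain ⟨p, hp, rfl⟩ := hy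
    rw [Algebra.algebraMap_eq_smul_one, TensorProduct.tmul_smul,
      Algebra.smul_def, Algebra.TensorProduct.algebraMap_apply, Ideal.algebraMap_residueField_eq_zero.2 hp]
    simp
  | zero => rw [TensorProduct.tmul_zero]
  | add a b _ _ ha hb => rw [TensorProduct.tmul_add, ha, hb, add_zero]
  | smul r a _ ha =>
    rw [smul_eq_mul, show (1 : P.ResidueField) ⊗ₜ[R] (r * a) = (1 ⊗ₜ[R] r) * (1 ⊗ₜ[R] a) by
      rw [Algebra.TensorProduct.tmul_mul_tmul, one_mul], ha, mul_zero]

section Normal

variable [IsDomain R] [IsNoetherianRing R] [IsIntegrallyClosed R] [Module.Flat R C]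

omit [IsNoetherianRing R] [IsIntegrallyClosed R] in
theorem smul_cancel {r : R} (hr : r ≠ 0) {x y : C} (h : r • x = r • y) : x = y :=
  Module.Flat.isSMulRegular_of_isRegular (M := C) (IsRegular.of_ne_zero hr) h

/-- An idempotent fraction has no denominator, over a normal Noetherian domain. -/
theorem exists_smul_eq_of_noetherian (hred : RedFib R C) {a : R} (ha : a ≠ 0) {c : C} (hc : c * c = a • c) :
    ∃ d, c = a • d := by
  let J : Ideal R :=
    { carrier := {r | ∃ d : C, r • c = a • d}
      add_mem' := fun {x y} ⟨d, hd⟩ ⟨d', hd'⟩ => ⟨d + d', by rw [add_smul, smul_add, hd, hd']⟩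
      zero_mem' := ⟨0, by simp⟩
      smul_mem' := fun r x ⟨d, hd⟩ => ⟨r • d, by rw [smul_eq_mul, mul_smul, hd, smul_comm]⟩ }
  -- at an associated prime of the denominator
  have loc : ∀ P ∈ associatedPrimes R (R ⧸ Ideal.span {a}), ∃ s ∈ J, s ∉ P := by
    intro P hP
    haveI : P.IsPrime := hP.isPrime
    haveI := Groth.L01.isDVR_localization_of_mem_associatedPrimes ha hP
    let S := Localization.AtPrime P
    obtain ⟨π, hπ⟩ := IsDiscreteValuationRing.exists_irreducible S
    obtain ⟨⟨π₀, u⟩, hπ₀⟩ := IsLocalization.surj P.primeCompl π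
    have hinj : Function.Injective (algebraMap R S) :=
      IsLocalization.injective S P.primeCompl_le_nonZeroDivisors
    have hu : IsUnit (algebraMap R S u) := IsLocalization.map_units S u
    have hπirr : Irreducible (algebraMap R S π₀) := hπ₀ ▸ (irreducible_mul_isUnit hu).2 hπ
    have hπ0 : π₀ ≠ 0 := fun h => hπirr.ne_zero (by rw [h, map_zero])
    have hπP : π₀ ∈ P := (IsLocalization.AtPrime.to_map_mem_maximal_iff S P π₀).1 hπirr.not_isUnit
    have key : ∀ p : R, p ≠ 0 → ∃ n v w, v ∉ P ∧ w ∉ P ∧ w * p = v * π₀ ^ n := by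
      intro p hp
      obtain ⟨n, hn⟩ := IsDiscreteValuationRing.associated_pow_irreducible ((map_ne_zero_iff _ hinj).2 hp) hπirr
      obtain ⟨z, hz⟩ := hn.symm
      obtain ⟨⟨v, w⟩, hvw⟩ := IsLocalization.surj P.primeCompl (z : S)
      refine ⟨n, v, w, fun hv => ?_, w.2, hinj ?_⟩
      · exact (IsLocalization.AtPrime.to_map_mem_maximal_iff S P v).2 hv
          (by rw [← hvw]; exact z.isUnit.mul (IsLocalization.map_units S w))
      · rw [map_mul, map_mul, map_pow, ← hvw, ← hz]
        ring
    obtain ⟨T, hT⟩ := IsNoetherian.noetherian P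
    have hstep : ∀ y : C, y ∈ P.map (algebraMap R C) → ∃ s ∉ P, ∃ y', s • y = π₀ • y' := by
      intro y hy
      rw [Ideal.map] at hy
      induction hy using Submodule.span_induction with
      | mem z hz =>
        obtain ⟨p, hp, rfl⟩ := hz
        by_cases hp0 : p = 0
        · exact ⟨1, (Ideal.ne_top_iff_one P).1 ‹P.IsPrime›.ne_top, 0, by simp [hp0]⟩
        obtain ⟨n, v, w, hv, hw, h⟩ := key p hp0
        obtain _ | n := n
        · exact absurd ((pow_zero π₀ ▸ h).trans (mul_one v) ▸ P.mul_mem_left w hp) hv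
        refine ⟨w, hw, algebraMap R C (v * π₀ ^ n), ?_⟩
        rw [Algebra.smul_def, Algebra.smul_def, ← map_mul, ← map_mul, h]
        congr 1
        ring
      | zero => exact ⟨1, (Ideal.ne_top_iff_one P).1 ‹P.IsPrime›.ne_top, 0, by simp⟩
      | add x y _ _ hx hy =>
        obtain ⟨s, hs, x', hx'⟩ := hx
        obtain ⟨t, ht, y', hy'⟩ := hy
        refine ⟨s * t, ‹P.IsPrime›.mul_notMem hs ht, t • x' + s • y', ?_⟩
        rw [smul_add, smul_add, mul_comm, mul_smul, hx', mul_comm, mul_smul, hy', smul_comm t, smul_comm s]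
      | smul r x _ hx =>
        obtain ⟨s, hs, x', hx'⟩ := hx
        exact ⟨s, hs, r * x', by rw [smul_eq_mul, ← mul_smul_comm, hx', mul_smul_comm]⟩
    have main : ∀ (n : ℕ) (y : C) (v : R), v ∉ P → y * y = (v * π₀ ^ n) • y →
        ∃ s ∉ P, ∃ y', s • y = π₀ ^ n • y' := by
      intro n
      induction n with
      | zero => exact fun y v _ _ => ⟨1, (Ideal.ne_top_iff_one P).1 ‹P.IsPrime›.ne_top, y, by simp⟩
      | succ n ih =>
        intro y v hv hy
        obtain ⟨s, hs, hsy⟩ := hred P ‹_› y (by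
          rw [hy, Algebra.smul_def]
          exact Ideal.mul_mem_right _ _ (Ideal.mem_map_of_mem _ (P.mul_mem_left v (by
            rw [pow_succ]; exact P.mul_mem_left _ hπP))))
        obtain ⟨s', hs', z, hz⟩ := hstep _ hsy
        let σ := s' * s
        have hσ : σ ∉ P := ‹P.IsPrime›.mul_notMem hs' hs
        have hσy : σ • y = π₀ • z := by rw [mul_smul]; exact hz
        have hz2 : z * z = (σ * v * π₀ ^ n) • z := by
          apply smul_cancel hπ0
          apply smul_cancel hπ0
          calc π₀ • π₀ • (z * z) = (π₀ • z) * (π₀ • z) := by rw [smul_mul_smul_comm, mul_smul]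
            _ = (σ • y) * (σ • y) := by rw [hσy]
            _ = (σ * v * π₀ ^ (n + 1)) • (σ • y) := by
              rw [smul_mul_smul_comm, hy, smul_smul, smul_smul]; congr 1; ring
            _ = π₀ • π₀ • ((σ * v * π₀ ^ n) • z) := by
              rw [hσy, smul_smul, smul_smul, smul_smul]; congr 1; ring
        obtain ⟨t, ht, z', hz'⟩ := ih z (σ * v) (‹P.IsPrime›.mul_notMem hσ hv) hz2
        refine ⟨t * σ, ‹P.IsPrime›.mul_notMem ht hσ, z', ?_⟩
        rw [mul_smul, hσy, smul_comm, hz', smul_smul, ← pow_succ']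
    obtain ⟨n, v, w, hv, hw, hwa⟩ := key a ha
    obtain ⟨s, hs, y', hy'⟩ := main n (w • c) v hv (by
      rw [smul_mul_smul_comm, hc, smul_smul, smul_smul, ← hwa]; congr 1; ring)
    refine ⟨v * (s * w), ⟨w • y', ?_⟩, ‹P.IsPrime›.mul_notMem hv (‹P.IsPrime›.mul_notMem hs hw)⟩
    rw [mul_smul, mul_smul, hy', smul_smul, ← hwa, smul_smul, mul_comm w a]
  -- an element regular modulo the denominator
  obtain ⟨r, hr, hrP⟩ : ∃ r ∈ J, ∀ P ∈ associatedPrimes R (R ⧸ Ideal.span {a}), r ∉ P := by
    by_contra hcon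
    push Not at hcon
    have hfin : (associatedPrimes R (R ⧸ Ideal.span {a})).Finite := associatedPrimes.finite R _
    have hsub : (J : Set R) ⊆ ⋃ P ∈ (hfin.toFinset : Set (Ideal R)), (id P : Ideal R) := fun r hr => by
      obtain ⟨P, hP, hrP⟩ := hcon r hr
      exact Set.mem_biUnion (hfin.mem_toFinset.2 hP) hrP
    obtain ⟨P, hP, hle⟩ := (Ideal.subset_union_prime (f := id) ⊥ ⊥
      fun P hP _ _ => (hfin.mem_toFinset.1 hP).isPrime).1 hsub
    obtain ⟨s, hs, hsP⟩ := loc P (hfin.mem_toFinset.1 hP)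
    exact hsP (hle hs)
  obtain ⟨d, hd⟩ := hr
  have hreg : IsSMulRegular (C ⊗[R] (R ⧸ Ideal.span {a})) r := by
    refine IsSMulRegular.lTensor (R := R) (M := C) (M' := R ⧸ Ideal.span {a}) ?_
    refine IsSMulRegular.of_right_eq_zero_of_smul fun z hz => ?_
    by_contra hz0
    obtain ⟨P, hP, hrP'⟩ : ∃ P ∈ associatedPrimes R (R ⧸ Ideal.span {a}), r ∈ P := by
      have h := (biUnion_associatedPrimes_eq_zero_divisors R (R ⧸ Ideal.span {a}))
      have hmem : r ∈ {r : R | ∃ x : R ⧸ Ideal.span {a}, x ≠ 0 ∧ r • x = 0} := ⟨z, hz0, hz⟩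
      rw [← h] at hmem
      simpa using hmem
    exact hrP P hP hrP'
  have h0 : c ⊗ₜ[R] (Ideal.Quotient.mk (Ideal.span {a}) (1 : R)) = 0 := by
    refine hreg ?_
    show r • (c ⊗ₜ[R] _) = r • (0 : C ⊗[R] (R ⧸ Ideal.span {a}))
    rw [smul_zero, TensorProduct.smul_tmul', hd, TensorProduct.smul_tmul, Algebra.smul_def,
      show algebraMap R (R ⧸ Ideal.span {a}) a = 0 from
        Ideal.Quotient.eq_zero_iff_mem.2 (Ideal.mem_span_singleton_self a), zero_mul, TensorProduct.tmul_zero]
  have h1 : Submodule.Quotient.mk (p := Ideal.span {a} • (⊤ : Submodule R C)) c = 0 := by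
    have := congrArg (TensorProduct.tensorQuotEquivQuotSMul C (Ideal.span {a})) h0
    rwa [map_zero, TensorProduct.tensorQuotEquivQuotSMul_tmul_mk, one_smul] at this
  rw [Submodule.Quotient.mk_eq_zero, Submodule.ideal_span_singleton_smul,
    Submodule.mem_smul_pointwise_iff_exists] at h1
  obtain ⟨d', -, hd'⟩ := h1
  exact ⟨d', hd'.symm⟩

end Normal

section Stage

variable {R : Type u} [CommRing R] {A : Subalgebra ℤ R} {C₁ : Type u} [CommRing C₁] [Algebra A C₁]

theorem exists_finset_range (y : R ⊗[A] C₁) : ∃ S : Finset R, ∀ B : Subalgebra A R, (S : Set R) ⊆ B →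
    y ∈ (Algebra.TensorProduct.map B.val (AlgHom.id A C₁)).range := by
  classical
  induction y using TensorProduct.induction_on with
  | zero => exact ⟨∅, fun B _ => Subalgebra.zero_mem _⟩
  | tmul r x => exact ⟨{r}, fun B hB => ⟨⟨r, hB (by simp)⟩ ⊗ₜ x, by simp⟩⟩
  | add y y' hy hy' =>
    obtain ⟨S, hS⟩ := hy
    obtain ⟨S', hS'⟩ := hy'
    exact ⟨S ∪ S', fun B hB => add_mem (hS B fun z hz => hB (by simp [hz])) (hS' B fun z hz => hB (by simp [hz]))⟩

theorem exists_finset_map_eq (J : Ideal C₁) (z : R ⊗[A] C₁)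
    (hz : z ∈ J.map (Algebra.TensorProduct.includeRight : C₁ →ₐ[A] R ⊗[A] C₁)) :
    ∃ S : Finset R, ∀ B : Subalgebra A R, (S : Set R) ⊆ B →
      ∃ y ∈ J.map (Algebra.TensorProduct.includeRight : C₁ →ₐ[A] B ⊗[A] C₁),
        Algebra.TensorProduct.map B.val (AlgHom.id A C₁) y = z := by
  classical
  rw [Ideal.map] at hz
  induction hz using Submodule.span_induction with
  | mem w hw =>
    obtain ⟨j, hj, rfl⟩ := hw
    exact ⟨∅, fun B _ => ⟨1 ⊗ₜ j, Ideal.mem_map_of_mem _ hj, by simp⟩⟩
  | zero => exact ⟨∅, fun B _ => ⟨0, zero_mem _, map_zero _⟩⟩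
  | add w w' _ _ hw hw' =>
    obtain ⟨S, hS⟩ := hw
    obtain ⟨S', hS'⟩ := hw'
    refine ⟨S ∪ S', fun B hB => ?_⟩
    obtain ⟨y, hy, rfl⟩ := hS B fun z hz => hB (by simp [hz])
    obtain ⟨y', hy', rfl⟩ := hS' B fun z hz => hB (by simp [hz])
    exact ⟨y + y', add_mem hy hy', map_add _ _ _⟩
  | smul r w _ hw =>
    obtain ⟨S, hS⟩ := hw
    obtain ⟨S', hS'⟩ := exists_finset_range r
    refine ⟨S ∪ S', fun B hB => ?_⟩
    obtain ⟨y, hy, rfl⟩ := hS B fun z hz => hB (by simp [hz])
    obtain ⟨r', rfl⟩ := hS' B fun z hz => hB (by simp [hz])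
    exact ⟨r' * y, Ideal.mul_mem_left _ _ hy, map_mul _ _ _⟩

/-- Images of integral elements in the fraction field of a normal domain. -/
theorem exists_of_isIntegral {B R F Q : Type u} [CommRing B] [CommRing R] [IsDomain R] [IsIntegrallyClosed R]
    [Field F] [Algebra B F] [Field Q] [Algebra R Q] [IsFractionRing R Q] (φ : B →+* R) (θ : F →+* Q)
    (hcomp : θ.comp (algebraMap B F) = (algebraMap R Q).comp φ) {z : F} (hz : IsIntegral B z) :
    ∃ r : R, algebraMap R Q r = θ z := by
  obtain ⟨p, hp, hp'⟩ := hz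
  refine (IsIntegrallyClosed.isIntegral_iff (R := R) (K := Q)).1 ⟨p.map φ, hp.map _, ?_⟩
  rw [Polynomial.eval₂_map, ← hcomp, ← Polynomial.hom_eval₂, hp', map_zero]

/-- Integral elements of the fraction field of a subdomain lie in the normal domain. -/
theorem exists_lift_integral {B R F Q : Type u} [CommRing B] [IsDomain B] [CommRing R] [IsDomain R] [IsIntegrallyClosed R]
    [Field F] [Algebra B F] [IsFractionRing B F] [Field Q] [Algebra R Q] [IsFractionRing R Q]
    (φ : B →+* R) (hφ : Function.Injective φ) :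
    ∃ (j : B →+* integralClosure B F) (ν : integralClosure B F →+* R), Function.Injective ν ∧ ν.comp j = φ := by
  have hinj := IsFractionRing.injective R Q
  have hBQ : Function.Injective ((algebraMap R Q).comp φ) := hinj.comp hφ
  obtain ⟨θ, hcomp⟩ : ∃ θ : F →+* Q, θ.comp (algebraMap B F) = (algebraMap R Q).comp φ :=
    ⟨IsFractionRing.lift hBQ, RingHom.ext fun b => IsFractionRing.lift_algebraMap hBQ b⟩
  have hθ : ∀ z : integralClosure B F, ∃ r : R, algebraMap R Q r = θ (z : F) := fun z =>
    exists_of_isIntegral φ θ hcomp z.2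
  choose ν hν using hθ
  refine ⟨algebraMap B (integralClosure B F),
    { toFun := ν
      map_one' := hinj (by rw [hν, map_one (algebraMap R Q)]; exact map_one θ)
      map_mul' := fun x y => hinj (by rw [map_mul (algebraMap R Q), hν, hν, hν]; exact map_mul θ _ _)
      map_zero' := hinj (by rw [hν, map_zero (algebraMap R Q)]; exact map_zero θ)
      map_add' := fun x y => hinj (by rw [map_add (algebraMap R Q), hν, hν, hν]; exact map_add θ _ _) },
    fun x y h => Subtype.ext (θ.injective ?_), RingHom.ext fun b => hinj ?_⟩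
  · rw [← hν, ← hν]
    exact congrArg (algebraMap R Q) h
  · show algebraMap R Q (ν _) = _
    rw [hν]
    exact RingHom.congr_fun hcomp b

/-- The normalisation of a subdomain maps to a normal domain. -/
theorem exists_normalisation {B R : Type u} [CommRing B] [IsDomain B] [CommRing R] [IsDomain R]
    [IsIntegrallyClosed R] [IsNoetherianRing B] [Module.Finite B (integralClosure B (FractionRing B))]
    (φ : B →+* R) (hφ : Function.Injective φ) :
    ∃ (N : Type u) (_ : CommRing N) (_ : IsDomain N) (_ : IsNoetherianRing N) (_ : IsIntegrallyClosed N)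
      (j : B →+* N) (ν : N →+* R), Function.Injective ν ∧ ν.comp j = φ := by
  obtain ⟨j, ν, h⟩ := exists_lift_integral (F := FractionRing B) (Q := FractionRing R) φ hφ
  exact ⟨_, inferInstance, inferInstance, IsNoetherianRing.of_finite B _,
    integralClosure.isIntegrallyClosedOfFiniteExtension (FractionRing B), j, ν, h⟩

/-- Finitely many elements of a normal domain lie in a Noetherian normal subdomain. -/
theorem exists_normal_stage [IsDomain R] [IsIntegrallyClosed R] (hA : A.FG) (S : Finset R) :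
    ∃ (N : Type u) (_ : CommRing N) (_ : IsDomain N) (_ : IsNoetherianRing N) (_ : IsIntegrallyClosed N)
      (_ : Algebra A N) (ν : N →ₐ[A] R), Function.Injective ν ∧ (S : Set R) ⊆ ν.range := by
  classical
  let B : Subalgebra ℤ R := A ⊔ Algebra.adjoin ℤ (S : Set R)
  haveI : Algebra.FiniteType ℤ B := B.fg_iff_finiteType.mp (hA.sup (Subalgebra.fg_adjoin_finset _))
  haveI : IsNoetherianRing B := Algebra.FiniteType.isNoetherianRing ℤ B
  haveI : Module.Finite B (integralClosure B (FractionRing B)) := Groth.L07.FlatVal.isN1_of_finiteType_int B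
  obtain ⟨N, _, h1, h2, h3, j, ν, hν, hj⟩ := exists_normalisation B.val.toRingHom Subtype.val_injective
  have hAB : A ≤ B := le_sup_left
  letI : Algebra A N := (j.comp (Subalgebra.inclusion hAB).toRingHom).toAlgebra
  exact ⟨N, inferInstance, h1, h2, h3, inferInstance,
    { ν with commutes' := fun r => RingHom.congr_fun hj (Subalgebra.inclusion hAB r) }, hν,
    fun r hr => ⟨j ⟨r, (le_sup_right : _ ≤ B) (Algebra.subset_adjoin hr)⟩, RingHom.congr_fun hj _⟩⟩

/-- The bad ideal becomes trivial. -/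
theorem map_eq_top {C : Type u} [CommRing C] [Algebra R C] [Module.Flat R C] [Algebra.FinitePresentation R C]
    (hred : ∀ x, redCond (Spec.map (CommRingCat.ofHom (algebraMap R C))) x) (e : R ⊗[A] C₁ ≃ₐ[R] C)
    [Flat (Spec.map (CommRingCat.ofHom (algebraMap A C₁)))]
    [LocallyOfFinitePresentation (Spec.map (CommRingCat.ofHom (algebraMap A C₁)))]
    (J : Ideal C₁) (hJ : {x | redCond (Spec.map (CommRingCat.ofHom (algebraMap A C₁))) x}ᶜ =
      PrimeSpectrum.zeroLocus (J : Set C₁)) :
    J.map (Algebra.TensorProduct.includeRight : C₁ →ₐ[A] R ⊗[A] C₁) = ⊤ := by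
  by_contra hne
  obtain ⟨M, hM, hle⟩ := Ideal.exists_le_maximal _ hne
  let q : PrimeSpectrum (R ⊗[A] C₁) := ⟨M, hM.isPrime⟩
  haveI : IsIso (Spec.map (CommRingCat.ofHom e.symm.toAlgHom.toRingHom)) := by
    show IsIso (Spec.map e.symm.toRingEquiv.toCommRingCatIso.hom)
    infer_instance
  have he : IsPullback (Spec.map (CommRingCat.ofHom e.symm.toAlgHom.toRingHom))
      (Spec.map (CommRingCat.ofHom (Algebra.TensorProduct.includeLeftRingHom : R →+* R ⊗[A] C₁)))
      (Spec.map (CommRingCat.ofHom (algebraMap R C))) (𝟙 _) := by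
    refine IsPullback.of_horiz_isIso ⟨?_⟩
    rw [Category.comp_id, ← Spec.map_comp, ← CommRingCat.ofHom_comp]
    congr 2
    exact RingHom.ext fun r => e.symm.commutes r
  haveI : Flat (Spec.map (CommRingCat.ofHom (algebraMap R C))) := by
    rw [HasRingHomProperty.Spec_iff (P := @Flat)]
    exact RingHom.flat_algebraMap_iff.mpr inferInstance
  haveI : LocallyOfFinitePresentation (Spec.map (CommRingCat.ofHom (algebraMap R C))) := by
    rw [HasRingHomProperty.Spec_iff (P := @LocallyOfFinitePresentation)]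
    exact RingHom.finitePresentation_algebraMap.mpr inferInstance
  have this := (redCond_good.baseChange (isPullback_tensor A R C₁) q).1 ((redCond_good.baseChange he q).2 (hred _))
  have hmem : PrimeSpectrum.comap (Algebra.TensorProduct.includeRight : C₁ →ₐ[A] R ⊗[A] C₁).toRingHom q ∈
      PrimeSpectrum.zeroLocus (J : Set C₁) :=
    (PrimeSpectrum.mem_zeroLocus _ _).2 fun x hx => hle (Ideal.mem_map_of_mem _ hx)
  rw [← hJ] at hmem
  exact hmem this

theorem redFib_stage [Flat (Spec.map (CommRingCat.ofHom (algebraMap A C₁)))]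
    [LocallyOfFinitePresentation (Spec.map (CommRingCat.ofHom (algebraMap A C₁)))]
    (J : Ideal C₁) (hJ : {x | redCond (Spec.map (CommRingCat.ofHom (algebraMap A C₁))) x}ᶜ =
      PrimeSpectrum.zeroLocus (J : Set C₁)) (N : Type u) [CommRing N] [Algebra A N]
    (hJN : J.map (Algebra.TensorProduct.includeRight : C₁ →ₐ[A] N ⊗[A] C₁) = ⊤) : RedFib N (N ⊗[A] C₁) :=
  redFib_of_redCond fun z => by
    refine (redCond_good.baseChange (isPullback_tensor A N C₁) z).2 ?_
    by_contra hbad
    have hmem : PrimeSpectrum.comap (Algebra.TensorProduct.includeRight : C₁ →ₐ[A] N ⊗[A] C₁).toRingHom z ∈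
        PrimeSpectrum.zeroLocus (J : Set C₁) := by rw [← hJ]; exact hbad
    exact z.isPrime.ne_top (top_le_iff.1 (hJN ▸ Ideal.map_le_iff_le_comap.2
      ((PrimeSpectrum.mem_zeroLocus _ _).1 hmem)))

end Stage

/-- An idempotent fraction has no denominator, over a normal domain. -/
theorem exists_smul_eq {R C : Type u} [CommRing R] [CommRing C] [Algebra R C] [IsDomain R] [IsIntegrallyClosed R]
    [Module.Flat R C] [Algebra.FinitePresentation R C]
    (hred : ∀ x, redCond (Spec.map (CommRingCat.ofHom (algebraMap R C))) x) {a : R} (ha : a ≠ 0) {c : C}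
    (hc : c * c = a • c) : ∃ d, c = a • d := by
  classical
  obtain ⟨A, C₁, _, _, hA, _, _, ⟨e⟩⟩ := Groth.L06.DescendFiniteTypeInt.exists_flat_model_fg R C
  haveI : Algebra.FiniteType ℤ A := A.fg_iff_finiteType.mp hA
  haveI : IsNoetherianRing A := Algebra.FiniteType.isNoetherianRing ℤ A
  haveI : Algebra.FinitePresentation A C₁ := Algebra.FinitePresentation.of_finiteType.mp ‹_›
  haveI : Flat (Spec.map (CommRingCat.ofHom (algebraMap A C₁))) := by
    rw [HasRingHomProperty.Spec_iff (P := @Flat)]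
    exact RingHom.flat_algebraMap_iff.mpr inferInstance
  haveI : LocallyOfFinitePresentation (Spec.map (CommRingCat.ofHom (algebraMap A C₁))) := by
    rw [HasRingHomProperty.Spec_iff (P := @LocallyOfFinitePresentation)]
    exact RingHom.finitePresentation_algebraMap.mpr inferInstance
  obtain ⟨J, hJ⟩ := (PrimeSpectrum.isClosed_iff_zeroLocus_ideal _).1
    (redCond_good.isOpen (Spec.map (CommRingCat.ofHom (algebraMap A C₁)))).isClosed_compl
  obtain ⟨S₁, hS₁⟩ := exists_finset_map_eq J 1 (by rw [map_eq_top hred e J hJ]; exact Submodule.mem_top)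
  obtain ⟨S₂, hS₂⟩ := exists_finset_range (e.symm c)
  obtain ⟨N, _, _, _, _, _, ν, hνinj, hν⟩ := exists_normal_stage hA (S₁ ∪ S₂ ∪ {a})
  let B' : Subalgebra A R := ν.range
  let ψ : N ⊗[A] C₁ →ₐ[A] R ⊗[A] C₁ := Algebra.TensorProduct.map ν (AlgHom.id A C₁)
  have hψinj : Function.Injective ψ :=
    Module.Flat.rTensor_preserves_injective_linearMap (M := C₁) ν.toLinearMap hνinj
  let π' : N ⊗[A] C₁ →ₐ[A] B' ⊗[A] C₁ := Algebra.TensorProduct.map ν.rangeRestrict (AlgHom.id A C₁)
  have hπ'surj : Function.Surjective π' :=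
    LinearMap.rTensor_surjective C₁ (g := ν.rangeRestrict.toLinearMap) ν.rangeRestrict_surjective
  have hπ'ψ : ∀ z, Algebra.TensorProduct.map B'.val (AlgHom.id A C₁) (π' z) = ψ z := fun z => by
    induction z using TensorProduct.induction_on with
    | zero => simp
    | tmul x y => rfl
    | add x y hx hy => rw [map_add, map_add, map_add, hx, hy]
  have hJN : J.map (Algebra.TensorProduct.includeRight : C₁ →ₐ[A] N ⊗[A] C₁) = ⊤ := by
    obtain ⟨y, hy, hy1⟩ := hS₁ B' fun r hr => hν (by
      simp only [Finset.coe_union, Set.mem_union]; exact Or.inl (Or.inl hr))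
    have hmap : J.map (Algebra.TensorProduct.includeRight : C₁ →ₐ[A] B' ⊗[A] C₁) =
        (J.map (Algebra.TensorProduct.includeRight : C₁ →ₐ[A] N ⊗[A] C₁)).map π' := by
      rw [Ideal.map_mapₐ]
      congr 1
      exact AlgHom.ext fun x => by simp [π']
    rw [hmap] at hy
    obtain ⟨z, hz, rfl⟩ := (Ideal.mem_map_iff_of_surjective π' hπ'surj).1 hy
    rw [hπ'ψ] at hy1
    rw [Ideal.eq_top_iff_one]
    rwa [← hψinj (hy1.trans (map_one ψ).symm)]
  obtain ⟨y₂, hy₂⟩ := hS₂ B' fun r hr => hν (by
    simp only [Finset.coe_union, Set.mem_union]; exact Or.inl (Or.inr hr))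
  obtain ⟨c', rfl⟩ := hπ'surj y₂
  replace hy₂ : ψ c' = e.symm c := (hπ'ψ c').symm.trans hy₂
  obtain ⟨a', ha'⟩ := hν (show a ∈ ((S₁ ∪ S₂ ∪ {a} : Finset R) : Set R) by simp)
  replace ha' : ν a' = a := ha'
  have hψsmul : ∀ z, ψ (a' • z) = a • ψ z := fun z => by
    induction z using TensorProduct.induction_on with
    | zero => simp
    | tmul x y =>
      show ψ ((a' • x) ⊗ₜ[A] y) = (a • ν x) ⊗ₜ[A] y
      show ν (a' • x) ⊗ₜ[A] (AlgHom.id A C₁ y) = _
      rw [smul_eq_mul, map_mul, ha', smul_eq_mul]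
      rfl
    | add x y hx hy => rw [smul_add, map_add, map_add, hx, hy, smul_add]
  have ha'0 : a' ≠ 0 := fun h => ha (by rw [← ha', h, map_zero])
  obtain ⟨d', hd'⟩ := exists_smul_eq_of_noetherian (redFib_stage J hJ N hJN) ha'0 (c := c') (hψinj (by
    rw [map_mul, hψsmul, hy₂, ← map_mul, hc, map_smul]))
  refine ⟨e (ψ d'), e.symm.injective ?_⟩
  rw [map_smul, AlgEquiv.symm_apply_apply, ← hy₂, hd', hψsmul]

end Groth.L21.ConnFam
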