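import Groth.Agent.L21.ConnFam.Space
import Groth.Agent.L21.ConnFam.Engine
import Groth.Agent.L21.OpenSt.Fibre
import Groth.Agent.L21.OpenSt.RedCond
import Groth.Agent.L23.MorCalc

/-!
The open locus of a family of curves where the geometric fibres are reduced and connected.
-/

set_option autoImplicit false
set_option linter.style.haveILetI false
set_option backward.isDefEq.respectTransparency false
set_option backward.isDefEq.respectTransparency.types false

universe u

open CategoryTheory CategoryTheory.Limits AlgebraicGeometry AlgSp TopologicalSpace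

noncomputable section

namespace Groth.L21.ConnFam

open Groth.L21.OpenSt Groth.L23

/-- Over an algebraically closed field, geometrically reduced at all points is reduced. -/
theorem isReduced_iff_redCond {Ω : Type u} [Field Ω] [IsAlgClosed Ω] {X' : Scheme.{u}}
    (q : X' ⟶ Spec (CommRingCat.of Ω)) : IsReduced X' ↔ ∀ x, redCond q x := by
  refine ⟨fun h x => ?_, fun h => ?_⟩
  · haveI : IsIso (Spec.map (CommRingCat.ofHom (algebraMap Ω Ω))) := by
      rw [Algebra.algebraMap_self, show CommRingCat.ofHom (RingHom.id Ω) = 𝟙 _ from rfl, Spec.map_id]; infer_instance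
    haveI : IsIso (FBase.bcπ q Ω) :=
      inferInstanceAs (IsIso (CategoryTheory.Limits.pullback.fst q (Spec.map (CommRingCat.ofHom (algebraMap Ω Ω)))))
    let x' : ↥(FBase.bc q Ω) := (inv (FBase.bcπ q Ω)) x
    haveI : IsReduced (FBase.bc q Ω) := isReduced_of_isOpenImmersion (FBase.bcπ q Ω)
    refine (redCond_iff_of_isPullback q x (i := 𝟙 _) (f₀ := q) (j := 𝟙 _)
      (IsPullback.of_horiz_isIso ⟨by simp⟩) x rfl (fun w hw => hw) fun K _ t _ =>
        ⟨Spec.preimage t, by rw [Spec.map_preimage, Category.comp_id]⟩).2 ?_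
    refine Groth.Agent.S2521.result (Ω := Ω) q x x' ?_ (inferInstanceAs (_root_.IsReduced _))
    show (inv (FBase.bcπ q Ω) ≫ FBase.bcπ q Ω) x = x
    rw [IsIso.inv_hom_id]
    rfl
  · haveI : ∀ x, _root_.IsReduced (X'.presheaf.stalk x) := fun x =>
      redCond_isPullback (h x) (a := 𝟙 X') (b := q) (t := 𝟙 _)
        (IsPullback.of_horiz_isIso ⟨by simp⟩) x rfl
    exact isReduced_of_isReduced_stalk _

variable {S : Scheme.{u}} {n : ℕ}

/-- The locus of geometrically reduced fibres of a family of curves. -/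
theorem exists_red_locus (B : CurvSt.SpFamObj S n) (hB : CurvSt.IsCurveFam B) :
    ∃ O : B.base.left.Opens,
      (∀ (Ω : Type u) [Field Ω] [IsAlgClosed Ω] (t : Spec (CommRingCat.of Ω) ⟶ B.base.left) (X' : Scheme.{u})
        (q : X' ⟶ Spec (CommRingCat.of Ω)) (i : (AlgSp.yon S).obj (B.ptOver (q ≫ t)) ⟶ B.X),
        IsPullback i ((AlgSp.yon S).map (B.fibHom t q)) B.f ((AlgSp.yon S).map (B.ptHom t)) →
          (IsReduced X' ↔ t default ∈ O)) ∧
      ∀ (T' : Over S) (b : T' ⟶ B.base) (X' : Sp S) (f' : X' ⟶ (yon S).obj T') (top : X' ⟶ B.X),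
        IsPullback top f' B.f ((yon S).map b) → (∀ z, b.left z ∈ O) → LocP (Everywhere redCond) f' := by
  obtain ⟨hX, hflat, hprop, hfp, -⟩ := hB
  obtain ⟨O, hO⟩ := exists_locus redCond_good hX hflat hfp.1 hprop.2.2
  refine ⟨O, fun Ω _ _ t X' q i hP => ?_, fun T' b X' f' top sq hb => ?_⟩
  · have hfl' := locP_of_isPullback etLocal_flat hX (IsAlgSpace.yon_obj _) (IsAlgSpace.yon_obj _) hP hflat
    have hfp' := locP_of_isPullback etLocal_lfp hX (IsAlgSpace.yon_obj _) (IsAlgSpace.yon_obj _) hP hfp.1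
    let A₀ : Atl ((AlgSp.yon S).map (B.fibHom t q)) :=
      ⟨B.ptOver (q ≫ t), 𝟙 _, B.fibHom t q, AlgSp.repWith_id _ _, AlgSp.repWith_id _ _, Category.id_comp _⟩
    refine (isReduced_iff_redCond q).trans (((locP_iff redCond_good hfl' hfp' A₀).symm.trans
      (hO _ _ _ i (B.ptHom t) (IsAlgSpace.yon_obj _) hfl' hfp' hP).1).trans ⟨fun h => h (default : ↥(Spec (CommRingCat.of Ω))), fun h z => ?_⟩)
    show t z ∈ O
    rw [Subsingleton.elim (α := PrimeSpectrum Ω) z (default : ↥(Spec (CommRingCat.of Ω)))]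
    exact h
  · have hX' : IsAlgSpace X' := isAlgSpace_of_isPullback (IsAlgSpace.yon_obj B.base).diag hX (IsAlgSpace.yon_obj T') sq
    exact (hO X' T' f' top b hX'
      (locP_of_isPullback etLocal_flat hX (IsAlgSpace.yon_obj _) (IsAlgSpace.yon_obj _) sq hflat)
      (locP_of_isPullback etLocal_lfp hX (IsAlgSpace.yon_obj _) (IsAlgSpace.yon_obj _) sq hfp.1) sq).1.2 hb

/-- The locus of geometrically reduced and connected fibres of a family of curves is open. -/
theorem exists_conn_locus (B : CurvSt.SpFamObj S n) (hB : CurvSt.IsCurveFam B) :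
    ∃ O : B.base.left.Opens, ∀ (Ω : Type u) [Field Ω] [IsAlgClosed Ω] (t : Spec (CommRingCat.of Ω) ⟶ B.base.left)
      (X' : Scheme.{u}) (q : X' ⟶ Spec (CommRingCat.of Ω)) (i : (AlgSp.yon S).obj (B.ptOver (q ≫ t)) ⟶ B.X),
      IsPullback i ((AlgSp.yon S).map (B.fibHom t q)) B.f ((AlgSp.yon S).map (B.ptHom t)) →
        (IsReduced X' ∧ ConnectedSpace ↥X' ↔ t default ∈ O) := by
  obtain ⟨R, hR, hR'⟩ := exists_red_locus B hB
  -- the locus over an affine open inside the reduced locus
  have loc : ∀ V : B.base.left.Opens, IsAffineOpen V → V ≤ R → ∃ G : Set B.base.left, IsOpen G ∧ G ⊆ V ∧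
      ∀ (Ω : Type u) [Field Ω] [IsAlgClosed Ω] (t : Spec (CommRingCat.of Ω) ⟶ B.base.left) (X' : Scheme.{u})
        (q : X' ⟶ Spec (CommRingCat.of Ω)) (i : (AlgSp.yon S).obj (B.ptOver (q ≫ t)) ⟶ B.X),
        IsPullback i ((AlgSp.yon S).map (B.fibHom t q)) B.f ((AlgSp.yon S).map (B.ptHom t)) →
          t default ∈ V → (ConnectedSpace ↥X' ↔ t default ∈ G) := by
    intro V hV hVR
    let str : Spec Γ(B.base.left, V) ⟶ S := hV.fromSpec ≫ B.base.hom
    let j : Over.mk str ⟶ B.base := Over.homMk hV.fromSpec rfl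
    have hjR : ∀ z, j.left z ∈ R := fun z => hVR (hV.range_fromSpec.subset ⟨z, rfl⟩)
    have sqV := IsPullback.of_hasPullback B.f ((yon S).map j)
    obtain ⟨hX, hflat, hprop, hfp, -⟩ := hB
    have hX' : IsAlgSpace (pullback B.f ((yon S).map j)) :=
      isAlgSpace_of_isPullback (IsAlgSpace.yon_obj B.base).diag hX (IsAlgSpace.yon_obj _) sqV
    haveI : CompactSpace (Over.mk str).left := inferInstanceAs (CompactSpace (PrimeSpectrum Γ(B.base.left, V)))
    have hqc : IsQuasiCompactSp (pullback B.f ((yon S).map j)) :=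
      hfp.2.1 (IsAlgSpace.yon_obj _) isQuasiCompactSp_of_compactSpace _ _ _ sqV
    have hprop' := isProperMor_of_isPullback hX (IsAlgSpace.yon_obj _) (IsAlgSpace.yon_obj _) sqV hprop
    obtain ⟨O, hO⟩ := exists_opens_connected (A := Γ(B.base.left, V)) (str := str) hX' hqc hprop'.1 hprop'.2.2
      (locP_of_isPullback etLocal_flat hX (IsAlgSpace.yon_obj _) (IsAlgSpace.yon_obj _) sqV hflat)
      (locP_of_isPullback etLocal_lfp hX (IsAlgSpace.yon_obj _) (IsAlgSpace.yon_obj _) sqV hfp.1)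
      (hR' _ j _ _ _ sqV hjR)
    refine ⟨hV.fromSpec '' (O : Set (PrimeSpectrum Γ(B.base.left, V))), hV.fromSpec.isOpenEmbedding.isOpenMap _ O.isOpen, ?_, fun Ω _ _ t X' q i hP ht => ?_⟩
    · rintro - ⟨z, -, rfl⟩
      exact hV.range_fromSpec.subset ⟨z, rfl⟩
    -- factor the point through the open
    have hrange : Set.range t ⊆ Set.range hV.fromSpec := by
      rintro - ⟨z, rfl⟩
      rw [hV.range_fromSpec, Subsingleton.elim (α := PrimeSpectrum Ω) z (default : ↥(Spec (CommRingCat.of Ω)))]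
      exact ht
    let t' : Spec (CommRingCat.of Ω) ⟶ Spec Γ(B.base.left, V) := IsOpenImmersion.lift hV.fromSpec t hrange
    have ht' : t' ≫ hV.fromSpec = t := IsOpenImmersion.lift_fac _ _ _
    letI : Algebra Γ(B.base.left, V) Ω := (Spec.preimage t').hom.toAlgebra
    have hmap : Spec.map (CommRingCat.ofHom (algebraMap Γ(B.base.left, V) Ω)) = t' := Spec.map_preimage t'
    let e : B.ptOver t ≅ spOver str Ω := Over.isoMk (Iso.refl _) (by
      show 𝟙 _ ≫ Spec.map _ ≫ str = t ≫ B.base.hom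
      rw [Category.id_comp, hmap, ← ht', Category.assoc])
    have he : e.hom ≫ spBase str Ω ≫ j = B.ptHom t := Over.OverMorphism.ext (by
      show 𝟙 _ ≫ Spec.map _ ≫ hV.fromSpec = t
      rw [Category.id_comp, hmap, ht'])
    have houter : IsPullback i ((yon S).map (B.fibHom t q ≫ e.hom)) B.f
        ((yon S).map (spBase str Ω) ≫ (yon S).map j) := by
      refine hP.of_iso (Iso.refl _) (Iso.refl _) ((yon S).mapIso e) (Iso.refl _) (by simp) ?_ (by simp) ?_
      · simp only [Functor.mapIso_hom, Iso.refl_hom, Category.id_comp, Functor.map_comp]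
      · simp only [Functor.mapIso_hom, Iso.refl_hom, Category.comp_id, ← Functor.map_comp, he]
    let l : (yon S).obj (B.ptOver (q ≫ t)) ⟶ pullback B.f ((yon S).map j) :=
      pullback.lift i ((yon S).map (B.fibHom t q ≫ e.hom) ≫ (yon S).map (spBase str Ω))
        (by rw [houter.w, Category.assoc])
    have hl : IsPullback l ((yon S).map (B.fibHom t q ≫ e.hom)) (pullback.snd B.f ((yon S).map j))
        ((yon S).map (spBase str Ω)) := by
      refine IsPullback.of_right ?_ (pullback.lift_snd _ _ _) sqV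
      rw [show l ≫ pullback.fst B.f ((yon S).map j) = i from pullback.lift_fst _ _ _]
      exact houter
    have hconn := hO Ω hl
    have htop : ConnectedSpace ↥X' ↔ ConnectedSpace (Points ((yon S).obj (B.ptOver (q ≫ t)))) := by
      let h := Points.schemeHomeo (B.ptOver (q ≫ t))
      exact ⟨fun hc => haveI : ConnectedSpace ↥(B.ptOver (q ≫ t)).left := hc; h.surjective.connectedSpace h.continuous,
        fun hc => h.symm.surjective.connectedSpace h.symm.continuous⟩
    rw [htop, hconn]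
    have hpt : t' default =
        (⟨RingHom.ker (algebraMap Γ(B.base.left, V) Ω), RingHom.ker_isPrime _⟩ : PrimeSpectrum Γ(B.base.left, V)) := by
      rw [← hmap]
      refine PrimeSpectrum.ext ?_
      change Ideal.comap (algebraMap Γ(B.base.left, V) Ω) (default : ↥(Spec (CommRingCat.of Ω))).asIdeal =
        RingHom.ker (algebraMap Γ(B.base.left, V) Ω)
      rw [Ideal.eq_bot_of_prime (default : ↥(Spec (CommRingCat.of Ω))).asIdeal]
      rfl
    rw [← hpt, ← ht', Scheme.Hom.comp_apply]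
    exact ⟨fun h => ⟨_, h, rfl⟩, fun ⟨z, hz, e⟩ => hV.fromSpec.isOpenEmbedding.injective e ▸ hz⟩
  refine ⟨⟨{y | y ∈ R ∧ ∀ (Ω : Type u) [Field Ω] [IsAlgClosed Ω] (t : Spec (CommRingCat.of Ω) ⟶ B.base.left)
    (X' : Scheme.{u}) (q : X' ⟶ Spec (CommRingCat.of Ω)) (i : (AlgSp.yon S).obj (B.ptOver (q ≫ t)) ⟶ B.X),
    IsPullback i ((AlgSp.yon S).map (B.fibHom t q)) B.f ((AlgSp.yon S).map (B.ptHom t)) →
      t default = y → ConnectedSpace ↥X'}, ?_⟩, fun Ω _ _ t X' q i hP => ⟨?_, ?_⟩⟩
  · refine isOpen_iff_forall_mem_open.2 fun y hy => ?_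
    obtain ⟨_, ⟨V, hV, rfl⟩, hyV, hVR⟩ :=
      B.base.left.isBasis_affineOpens.exists_subset_of_mem_open hy.1 R.isOpen
    change B.base.left.Opens at V
    obtain ⟨G, hG, hGV, hG'⟩ := loc V hV hVR
    refine ⟨G, fun z hz => ⟨hVR (hGV hz), fun Ω _ _ t X' q i hP htz => ?_⟩, hG, ?_⟩
    · subst htz
      exact (hG' Ω t X' q i hP (hGV hz)).2 hz
    · let Ω := AlgebraicClosure (B.base.left.residueField y)
      let t : Spec (CommRingCat.of Ω) ⟶ B.base.left :=
        Spec.map (CommRingCat.ofHom (algebraMap (B.base.left.residueField y) Ω)) ≫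
          B.base.left.fromSpecResidueField y
      have ht : t default = y := by
        rw [Scheme.Hom.comp_apply]
        exact Scheme.fromSpecResidueField_apply (X := B.base.left) y _
      obtain ⟨X', q, i, hP⟩ := Groth.L21.CurveScheme.exists_geomFibre B hB Ω t
      have := (hG' Ω t X' q i hP (ht.symm ▸ hyV)).1 (hy.2 Ω t X' q i hP ht)
      rwa [ht] at this
  · rintro ⟨hred, hconn⟩
    have htR := (hR Ω t X' q i hP).1 hred
    refine ⟨htR, fun Ω' _ _ t' X'' q' i' hP' he => ?_⟩
    obtain ⟨_, ⟨V, hV, rfl⟩, hyV, hVR⟩ :=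
      B.base.left.isBasis_affineOpens.exists_subset_of_mem_open htR R.isOpen
    change B.base.left.Opens at V
    obtain ⟨G, -, -, hG'⟩ := loc V hV hVR
    have h1 := (hG' Ω t X' q i hP hyV).1 hconn
    exact (hG' Ω' t' X'' q' i' hP' (he.symm ▸ hyV)).2 (he.symm ▸ h1)
  · rintro ⟨h1, h2⟩
    exact ⟨(hR Ω t X' q i hP).2 h1, h2 Ω t X' q i hP rfl⟩

end Groth.L21.ConnFam
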