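import Mathlib.Algebra.MvPolynomial.Nilpotent
import Mathlib.RingTheory.Idempotents
import Mathlib.RingTheory.Spectrum.Prime.Topology
import Mathlib.RingTheory.Localization.FractionRing

/-!
Connectedness of four sheets glued as the cylinder of two maps of spectra.
-/

set_option autoImplicit false
set_option linter.style.haveILetI false

universe u

open MvPolynomial

noncomputable section

namespace Groth.L21.ConnFam

/-- An idempotent polynomial is constant. -/
theorem isIdempotentElem_eq_C {R σ : Type*} [CommRing R] {f : MvPolynomial σ R} (hf : IsIdempotentElem f) :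
    f = C (constantCoeff f) := by
  classical
  refine eq_of_isNilpotent_sub_of_isIdempotentElem hf ((hf.map constantCoeff).map (C : R →+* MvPolynomial σ R)) ?_
  rw [MvPolynomial.isNilpotent_iff]
  intro i
  rw [coeff_sub, coeff_C]
  rw [nilpotent_iff_mem_prime]
  intro p hp
  rw [← Ideal.Quotient.eq_zero_iff_mem]
  have h : IsIdempotentElem (map (Ideal.Quotient.mk p) f) := hf.map _
  rcases IsIdempotentElem.iff_eq_zero_or_one.1 h with h0 | h0
  · have := congrArg (MvPolynomial.coeff i) h0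
    rw [coeff_map] at this
    have h1 := congrArg constantCoeff h0
    rw [constantCoeff_map, map_zero] at h1
    split_ifs <;> simp [this, h1]
  · have := congrArg (MvPolynomial.coeff i) h0
    rw [coeff_map, coeff_one] at this
    have h1 := congrArg constantCoeff h0
    rw [constantCoeff_map, map_one] at h1
    split_ifs with hi <;> simp [hi, this, h1]

/-- Two copies of a spectrum, a sheet joining them and segments joining the images under the two maps. -/
structure Sheets {C D : Type u} [CommRing C] [CommRing D] (sC tC : C →+* D) (τ : Type)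
    (E : Type u) [CommRing E] where
  /-- the first sheet -/
  h₀ : E →+* MvPolynomial τ C
  /-- the second sheet -/
  h₁ : E →+* MvPolynomial τ C
  /-- the joining sheet -/
  h₃ : E →+* MvPolynomial Unit C
  /-- the segments -/
  h₄ : E →+* MvPolynomial Unit D
  surj₀ : Function.Surjective h₀
  surj₁ : Function.Surjective h₁
  surj₃ : Function.Surjective h₃
  surj₄ : Function.Surjective h₄
  cover : RingHom.ker h₀ * RingHom.ker h₁ * RingHom.ker h₃ * RingHom.ker h₄ ≤ nilradical E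
  end03 : ∃ v w, ∀ f, eval₂ (RingHom.id C) v (h₀ f) = eval₂ (RingHom.id C) w (h₃ f)
  end13 : ∃ v w, ∀ f, eval₂ (RingHom.id C) v (h₁ f) = eval₂ (RingHom.id C) w (h₃ f)
  end04 : ∃ v w, ∀ f, eval₂ sC v (h₀ f) = eval₂ (RingHom.id D) w (h₄ f)
  end14 : ∃ v w, ∀ f, eval₂ tC v (h₁ f) = eval₂ (RingHom.id D) w (h₄ f)
  no01 : ∀ (L : Type u) [Field L] (ψ : MvPolynomial τ C →+* L) (ψ' : MvPolynomial τ C →+* L),
    ψ.comp h₀ = ψ'.comp h₁ → False
  no34 : ∀ (L : Type u) [Field L] (ψ : MvPolynomial Unit C →+* L) (ψ' : MvPolynomial Unit D →+* L),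
    ψ.comp h₃ = ψ'.comp h₄ → False
  eq03 : ∀ (L : Type u) [Field L] (ψ : MvPolynomial τ C →+* L) (ψ' : MvPolynomial Unit C →+* L),
    ψ.comp h₀ = ψ'.comp h₃ → ∀ c, ψ (MvPolynomial.C c) = ψ' (MvPolynomial.C c)
  eq13 : ∀ (L : Type u) [Field L] (ψ : MvPolynomial τ C →+* L) (ψ' : MvPolynomial Unit C →+* L),
    ψ.comp h₁ = ψ'.comp h₃ → ∀ c, ψ (MvPolynomial.C c) = ψ' (MvPolynomial.C c)
  eq04 : ∀ (L : Type u) [Field L] (ψ : MvPolynomial τ C →+* L) (ψ' : MvPolynomial Unit D →+* L),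
    ψ.comp h₀ = ψ'.comp h₄ → ∀ c, ψ (MvPolynomial.C c) = ψ' (MvPolynomial.C (sC c))
  eq14 : ∀ (L : Type u) [Field L] (ψ : MvPolynomial τ C →+* L) (ψ' : MvPolynomial Unit D →+* L),
    ψ.comp h₁ = ψ'.comp h₄ → ∀ c, ψ (MvPolynomial.C c) = ψ' (MvPolynomial.C (tC c))

variable {C D : Type u} [CommRing C] [CommRing D] {sC tC : C →+* D} {τ : Type} {E : Type u} [CommRing E]

/-- Two maps to rings over the source, one of which is a surjection. -/
theorem exists_comp_eq {R Q : Type u} [CommRing R] [CommRing Q] {g : R →+* Q} (hg : Function.Surjective g)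
    {L : Type u} [CommRing L] (χ : R →+* L) (h : RingHom.ker g ≤ RingHom.ker χ) :
    ∃ ψ : Q →+* L, ψ.comp g = χ :=
  ⟨g.liftOfSurjective hg ⟨χ, h⟩, g.liftOfRightInverse_comp _ (Function.rightInverse_surjInv hg) ⟨χ, h⟩⟩

variable (G : Sheets sC tC τ E)

theorem Sheets.exists_factor {L : Type u} [Field L] (χ : E →+* L) :
    (∃ ψ : MvPolynomial τ C →+* L, ψ.comp G.h₀ = χ) ∨ (∃ ψ : MvPolynomial τ C →+* L, ψ.comp G.h₁ = χ) ∨
    (∃ ψ : MvPolynomial Unit C →+* L, ψ.comp G.h₃ = χ) ∨ (∃ ψ : MvPolynomial Unit D →+* L, ψ.comp G.h₄ = χ) := by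
  haveI : (RingHom.ker χ).IsPrime := RingHom.ker_isPrime _
  have h : nilradical E ≤ RingHom.ker χ := nilradical_le_prime _
  rcases (Ideal.IsPrime.mul_le ‹_›).1 (G.cover.trans h) with h | h
  · rcases (Ideal.IsPrime.mul_le ‹_›).1 h with h | h
    · rcases (Ideal.IsPrime.mul_le ‹_›).1 h with h | h
      · exact Or.inl (exists_comp_eq G.surj₀ χ h)
      · exact Or.inr (Or.inl (exists_comp_eq G.surj₁ χ h))
    · exact Or.inr (Or.inr (Or.inl (exists_comp_eq G.surj₃ χ h)))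
  · exact Or.inr (Or.inr (Or.inr (exists_comp_eq G.surj₄ χ h)))

/-- The residue homomorphism of a prime. -/
def resHom {R : Type u} [CommRing R] (P : PrimeSpectrum R) : R →+* FractionRing (R ⧸ P.asIdeal) :=
  (algebraMap _ _).comp (Ideal.Quotient.mk P.asIdeal)

theorem ker_resHom {R : Type u} [CommRing R] (P : PrimeSpectrum R) : RingHom.ker (resHom P) = P.asIdeal := by
  ext x
  rw [RingHom.mem_ker, resHom, RingHom.comp_apply, map_eq_zero_iff _ (IsFractionRing.injective _ _),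
    Ideal.Quotient.eq_zero_iff_mem]

include G in
theorem Sheets.connectedSpace (hnt : Nontrivial C) (h : ∀ e : C, IsIdempotentElem e → sC e = tC e → e = 0 ∨ e = 1) :
    ConnectedSpace (PrimeSpectrum E) := by
  haveI : Nontrivial E := RingHom.domain_nontrivial G.h₀
  haveI : PreconnectedSpace (PrimeSpectrum E) := by
    rw [preconnectedSpace_iff_clopen]
    intro U hU
    obtain ⟨f, hf, rfl⟩ := PrimeSpectrum.isClopen_iff.1 hU
    let e₀ := constantCoeff (G.h₀ f)
    have hf₀ : G.h₀ f = MvPolynomial.C e₀ := isIdempotentElem_eq_C (hf.map _)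
    let e₁ := constantCoeff (G.h₁ f)
    have hf₁ : G.h₁ f = MvPolynomial.C e₁ := isIdempotentElem_eq_C (hf.map _)
    let e₃ := constantCoeff (G.h₃ f)
    have hf₃ : G.h₃ f = MvPolynomial.C e₃ := isIdempotentElem_eq_C (hf.map _)
    let e₄ := constantCoeff (G.h₄ f)
    have hf₄ : G.h₄ f = MvPolynomial.C e₄ := isIdempotentElem_eq_C (hf.map _)
    have e03 : e₀ = e₃ := by
      obtain ⟨v, w, hvw⟩ := G.end03
      simpa [hf₀, hf₃] using hvw f
    have e13 : e₁ = e₃ := by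
      obtain ⟨v, w, hvw⟩ := G.end13
      simpa [hf₁, hf₃] using hvw f
    have es : sC e₀ = e₄ := by
      obtain ⟨v, w, hvw⟩ := G.end04
      simpa [hf₀, hf₄] using hvw f
    have et : tC e₁ = e₄ := by
      obtain ⟨v, w, hvw⟩ := G.end14
      simpa [hf₁, hf₄] using hvw f
    have key : ∀ b : Bool, e₀ = cond b 1 0 → f = cond b 1 0 := by
      intro b hb
      refine eq_of_isNilpotent_sub_of_isIdempotentElem hf (by cases b <;> simp [IsIdempotentElem]) ?_
      rw [nilpotent_iff_mem_prime]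
      intro P hP
      let χ := resHom ⟨P, hP⟩
      rw [show P = RingHom.ker χ from (ker_resHom ⟨P, hP⟩).symm, RingHom.mem_ker, map_sub, sub_eq_zero]
      have h13 : e₁ = e₀ := by rw [e13, e03]
      have h4 : e₄ = cond b 1 0 := by rw [← es, hb]; cases b <;> simp
      rcases G.exists_factor χ with ⟨ψ, hψ⟩ | ⟨ψ, hψ⟩ | ⟨ψ, hψ⟩ | ⟨ψ, hψ⟩
      · rw [← hψ, RingHom.comp_apply, hf₀, hb]; cases b <;> simp
      · rw [← hψ, RingHom.comp_apply, hf₁, h13, hb]; cases b <;> simp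
      · rw [← hψ, RingHom.comp_apply, hf₃, ← e03, hb]; cases b <;> simp
      · rw [← hψ, RingHom.comp_apply, hf₄, h4]; cases b <;> simp
    rcases h e₀ ((hf.map G.h₀).map constantCoeff) (by rw [es, ← et, e13, e03]) with h' | h'
    · left
      rw [key false h']
      simp
    · right
      rw [key true h']
      simp
  exact { toNonempty := inferInstance }

/-- The set glued from a function on the base. -/
def Sheets.set (a : C) : Set (PrimeSpectrum E) :=
  PrimeSpectrum.comap G.h₀ '' {q | MvPolynomial.C a ∈ q.asIdeal} ∪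
  PrimeSpectrum.comap G.h₁ '' {q | MvPolynomial.C a ∈ q.asIdeal} ∪
  PrimeSpectrum.comap G.h₃ '' {q | MvPolynomial.C a ∈ q.asIdeal} ∪
  PrimeSpectrum.comap G.h₄ '' {q | MvPolynomial.C (sC a) ∈ q.asIdeal}

theorem Sheets.isClosed_set (a : C) : IsClosed (G.set a) := by
  have hz : ∀ {R : Type u} [CommRing R] (x : R), IsClosed {q : PrimeSpectrum R | x ∈ q.asIdeal} := fun x => by
    convert PrimeSpectrum.isClosed_zeroLocus {x}
    ext q
    simp
  exact ((((PrimeSpectrum.isClosedEmbedding_comap_of_surjective _ _ G.surj₀).isClosedMap _ (hz _)).union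
      ((PrimeSpectrum.isClosedEmbedding_comap_of_surjective _ _ G.surj₁).isClosedMap _ (hz _))).union
      ((PrimeSpectrum.isClosedEmbedding_comap_of_surjective _ _ G.surj₃).isClosedMap _ (hz _))).union
      ((PrimeSpectrum.isClosedEmbedding_comap_of_surjective _ _ G.surj₄).isClosedMap _ (hz _))

theorem mem_image_iff {R Q : Type u} [CommRing R] [CommRing Q] {g : R →+* Q} (hg : Function.Surjective g) (x : Q)
    (P : PrimeSpectrum R) :
    P ∈ PrimeSpectrum.comap g '' {q | x ∈ q.asIdeal} ↔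
      ∃ ψ : Q →+* FractionRing (R ⧸ P.asIdeal), ψ.comp g = resHom P ∧ ψ x = 0 := by
  constructor
  · rintro ⟨q, hq, rfl⟩
    obtain ⟨y, rfl⟩ := hg x
    obtain ⟨ψ, hψ⟩ := exists_comp_eq hg (resHom (PrimeSpectrum.comap g q)) (by
      rw [ker_resHom]
      exact fun z hz => show g z ∈ q.asIdeal from (RingHom.mem_ker.1 hz) ▸ q.asIdeal.zero_mem)
    refine ⟨ψ, hψ, ?_⟩
    rw [← RingHom.comp_apply, hψ, ← RingHom.mem_ker, ker_resHom]
    exact hq
  · rintro ⟨ψ, hψ, hx⟩
    haveI : (RingHom.ker ψ).IsPrime := RingHom.ker_isPrime _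
    refine ⟨⟨RingHom.ker ψ, inferInstance⟩, hx, PrimeSpectrum.ext ?_⟩
    show (RingHom.ker ψ).comap g = P.asIdeal
    exact (RingHom.comap_ker ψ g).trans ((congrArg RingHom.ker hψ).trans (ker_resHom P))

theorem Sheets.mem_set_iff (a : C) (ha : IsIdempotentElem a) (hat : sC a = tC a) (P : PrimeSpectrum E) :
    P ∈ G.set a ↔ P ∉ G.set (1 - a) := by
  let χ := resHom P
  have u : ∀ {Q : Type u} [CommRing Q] {g : E →+* Q}, Function.Surjective g →
      ∀ ψ ψ' : Q →+* FractionRing (E ⧸ P.asIdeal), ψ.comp g = χ → ψ'.comp g = χ → ψ = ψ' :=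
    fun hg ψ ψ' h h' => RingHom.cancel_right hg |>.1 (h.trans h'.symm)
  obtain ⟨v, hiv, hv₀, hv₁, hv₃, hv₄⟩ : ∃ v, IsIdempotentElem v ∧
      (∀ ψ : MvPolynomial τ C →+* _, ψ.comp G.h₀ = χ → ψ (MvPolynomial.C a) = v) ∧
      (∀ ψ : MvPolynomial τ C →+* _, ψ.comp G.h₁ = χ → ψ (MvPolynomial.C a) = v) ∧
      (∀ ψ : MvPolynomial Unit C →+* _, ψ.comp G.h₃ = χ → ψ (MvPolynomial.C a) = v) ∧
      (∀ ψ : MvPolynomial Unit D →+* _, ψ.comp G.h₄ = χ → ψ (MvPolynomial.C (sC a)) = v) := by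
    rcases G.exists_factor χ with ⟨ψ, hψ⟩ | ⟨ψ, hψ⟩ | ⟨ψ, hψ⟩ | ⟨ψ, hψ⟩
    · exact ⟨_, (ha.map _).map ψ, fun ψ' h => by rw [u G.surj₀ ψ ψ' hψ h],
        fun ψ' h => (G.no01 _ ψ ψ' (hψ.trans h.symm)).elim,
        fun ψ' h => (G.eq03 _ ψ ψ' (hψ.trans h.symm) a).symm,
        fun ψ' h => (G.eq04 _ ψ ψ' (hψ.trans h.symm) a).symm⟩
    · exact ⟨_, (ha.map _).map ψ, fun ψ' h => (G.no01 _ ψ' ψ (h.trans hψ.symm)).elim,
        fun ψ' h => by rw [u G.surj₁ ψ ψ' hψ h],
        fun ψ' h => (G.eq13 _ ψ ψ' (hψ.trans h.symm) a).symm,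
        fun ψ' h => by rw [hat]; exact (G.eq14 _ ψ ψ' (hψ.trans h.symm) a).symm⟩
    · exact ⟨_, (ha.map _).map ψ, fun ψ' h => G.eq03 _ ψ' ψ (h.trans hψ.symm) a,
        fun ψ' h => G.eq13 _ ψ' ψ (h.trans hψ.symm) a,
        fun ψ' h => by rw [u G.surj₃ ψ ψ' hψ h], fun ψ' h => (G.no34 _ ψ ψ' (hψ.trans h.symm)).elim⟩
    · exact ⟨_, ((ha.map sC).map _).map ψ, fun ψ' h => G.eq04 _ ψ' ψ (h.trans hψ.symm) a,
        fun ψ' h => by rw [hat]; exact G.eq14 _ ψ' ψ (h.trans hψ.symm) a,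
        fun ψ' h => (G.no34 _ ψ' ψ (h.trans hψ.symm)).elim, fun ψ' h => by rw [u G.surj₄ ψ ψ' hψ h]⟩
  have key : ∀ (a' : C) (v' : FractionRing (E ⧸ P.asIdeal)),
      (∀ ψ : MvPolynomial τ C →+* _, ψ.comp G.h₀ = χ → ψ (MvPolynomial.C a') = v') →
      (∀ ψ : MvPolynomial τ C →+* _, ψ.comp G.h₁ = χ → ψ (MvPolynomial.C a') = v') →
      (∀ ψ : MvPolynomial Unit C →+* _, ψ.comp G.h₃ = χ → ψ (MvPolynomial.C a') = v') →
      (∀ ψ : MvPolynomial Unit D →+* _, ψ.comp G.h₄ = χ → ψ (MvPolynomial.C (sC a')) = v') →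
      (P ∈ G.set a' ↔ v' = 0) := by
    intro a' v' w₀ w₁ w₃ w₄
    simp only [Sheets.set, Set.mem_union, mem_image_iff G.surj₀, mem_image_iff G.surj₁, mem_image_iff G.surj₃,
      mem_image_iff G.surj₄]
    constructor
    · rintro (((⟨ψ, hψ, hx⟩ | ⟨ψ, hψ, hx⟩) | ⟨ψ, hψ, hx⟩) | ⟨ψ, hψ, hx⟩)
      · exact (w₀ ψ hψ).symm.trans hx
      · exact (w₁ ψ hψ).symm.trans hx
      · exact (w₃ ψ hψ).symm.trans hx
      · exact (w₄ ψ hψ).symm.trans hx
    · intro hv'
      rcases G.exists_factor χ with ⟨ψ, hψ⟩ | ⟨ψ, hψ⟩ | ⟨ψ, hψ⟩ | ⟨ψ, hψ⟩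
      · exact Or.inl (Or.inl (Or.inl ⟨ψ, hψ, (w₀ ψ hψ).trans hv'⟩))
      · exact Or.inl (Or.inl (Or.inr ⟨ψ, hψ, (w₁ ψ hψ).trans hv'⟩))
      · exact Or.inl (Or.inr ⟨ψ, hψ, (w₃ ψ hψ).trans hv'⟩)
      · exact Or.inr ⟨ψ, hψ, (w₄ ψ hψ).trans hv'⟩
  rw [key a v hv₀ hv₁ hv₃ hv₄, key (1 - a) (1 - v)
    (fun ψ h => by rw [map_sub, map_sub, map_one, map_one, hv₀ ψ h])
    (fun ψ h => by rw [map_sub, map_sub, map_one, map_one, hv₁ ψ h])
    (fun ψ h => by rw [map_sub, map_sub, map_one, map_one, hv₃ ψ h])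
    (fun ψ h => by rw [map_sub sC, map_one sC, map_sub, map_sub, map_one, map_one, hv₄ ψ h])]
  rcases IsIdempotentElem.iff_eq_zero_or_one.1 hiv with rfl | rfl <;> simp

include G in
theorem Sheets.of_connectedSpace (h : ConnectedSpace (PrimeSpectrum E)) :
    Nontrivial C ∧ ∀ e : C, IsIdempotentElem e → sC e = tC e → e = 0 ∨ e = 1 := by
  obtain ⟨P⟩ := h.toNonempty
  refine ⟨?_, fun e he hinv => ?_⟩
  · rcases G.exists_factor (resHom P) with ⟨ψ, -⟩ | ⟨ψ, -⟩ | ⟨ψ, -⟩ | ⟨ψ, -⟩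
    · exact RingHom.domain_nontrivial (ψ.comp MvPolynomial.C)
    · exact RingHom.domain_nontrivial (ψ.comp MvPolynomial.C)
    · exact RingHom.domain_nontrivial (ψ.comp MvPolynomial.C)
    · exact RingHom.domain_nontrivial ((ψ.comp MvPolynomial.C).comp sC)
  have hco : IsClopen (G.set e) := ⟨G.isClosed_set e, by
    rw [show G.set e = (G.set (1 - e))ᶜ from Set.ext (G.mem_set_iff e he hinv)]
    exact (G.isClosed_set _).isOpen_compl⟩
  have hback : ∀ a : C, IsIdempotentElem a → G.set a = ∅ → a = 1 := by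
    intro a ha hUa
    refine eq_of_isNilpotent_sub_of_isIdempotentElem ha .one ?_
    rw [nilpotent_iff_mem_prime]
    intro q hq
    by_contra hna
    haveI := hq
    have haq : a ∈ q := (hq.mem_or_mem (show a * (a - 1) ∈ q by
      rw [mul_sub, mul_one, ha.eq, sub_self]; exact q.zero_mem)).resolve_right hna
    have hin : PrimeSpectrum.comap G.h₀ ⟨q.comap constantCoeff, inferInstance⟩ ∈ G.set a := by
      refine Or.inl (Or.inl (Or.inl ⟨_, ?_, rfl⟩))
      show MvPolynomial.C a ∈ q.comap constantCoeff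
      rw [Ideal.mem_comap, constantCoeff_C]
      exact haq
    rw [hUa] at hin
    exact hin
  rcases isClopen_iff.1 hco with h' | h'
  · exact Or.inr (hback e he h')
  · refine Or.inl ?_
    have : G.set (1 - e) = ∅ := Set.eq_empty_of_forall_notMem fun P hP =>
      (G.mem_set_iff e he hinv P).1 (h' ▸ Set.mem_univ P) hP
    simpa using hback (1 - e) he.one_sub this

end Groth.L21.ConnFam
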