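import Groth.Agent.L21.ConnFam.Gen
import Groth.Agent.L23.DVRVC
import Groth.Agent.L23.Points
import Groth.Agent.L23.QsTop
import Groth.Agent.L23.Univ

/-!
Connectedness of the geometric fibres of a proper flat space over an affine base.
-/

set_option autoImplicit false
set_option linter.style.haveILetI false
set_option backward.isDefEq.respectTransparency false
set_option backward.isDefEq.respectTransparency.types false

universe u

open CategoryTheory CategoryTheory.Limits AlgebraicGeometry AlgSp TopologicalSpace
open scoped TensorProduct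

noncomputable section

namespace Groth.L21.ConnFam

open Groth.L21.OpenSt Groth.L23

section Top

variable {C D : Type u} [CommRing C] [CommRing D] (s t : C →+* D) {Y : Type*} [TopologicalSpace Y]
  {π : PrimeSpectrum C → Y}

/-- The basic open of an invariant idempotent is saturated. -/
theorem preimage_image_basicOpen
    (h : ∀ u v, π u = π v ↔ ∃ r : PrimeSpectrum D, PrimeSpectrum.comap s r = u ∧ PrimeSpectrum.comap t r = v)
    {e : C} (he : s e = t e) :
    π ⁻¹' (π '' (PrimeSpectrum.basicOpen e : Set (PrimeSpectrum C))) = PrimeSpectrum.basicOpen e := by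
  refine Set.Subset.antisymm ?_ (Set.subset_preimage_image _ _)
  rintro u ⟨v, hv, e'⟩
  obtain ⟨r, rfl, rfl⟩ := (h u v).1 e'.symm
  intro hu
  apply hv
  show t e ∈ r.asIdeal
  rw [← he]
  exact hu

variable (hπ : IsOpenQuotientMap π)
  (h : ∀ u v, π u = π v ↔ ∃ r : PrimeSpectrum D, PrimeSpectrum.comap s r = u ∧ PrimeSpectrum.comap t r = v)

include hπ h in
theorem isClopen_image_basicOpen {e : C} (hid : IsIdempotentElem e) (he : s e = t e) :
    IsClopen (π '' (PrimeSpectrum.basicOpen e : Set (PrimeSpectrum C))) := by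
  refine ⟨?_, hπ.isOpenMap _ (PrimeSpectrum.basicOpen e).isOpen⟩
  rw [← hπ.isQuotientMap.isClosed_preimage, preimage_image_basicOpen s t h he]
  exact (PrimeSpectrum.isClopen_iff.2 ⟨e, hid, rfl⟩).1

include hπ h in
/-- Connectedness of a quotient of a spectrum by an equivalence relation with affine graph. -/
theorem connectedSpace_iff_idempotents : ConnectedSpace Y ↔
    Nontrivial C ∧ ∀ e : C, IsIdempotentElem e → s e = t e → e = 0 ∨ e = 1 := by
  constructor
  · intro hY
    have hne : Nonempty (PrimeSpectrum C) := ⟨(hπ.surjective hY.toNonempty.some).choose⟩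
    refine ⟨PrimeSpectrum.nonempty_iff_nontrivial.1 hne, fun e hid he => ?_⟩
    have hpre := preimage_image_basicOpen s t h he
    rcases isClopen_iff.1 (isClopen_image_basicOpen s t hπ h hid he) with h0 | h1
    · left
      rw [h0, Set.preimage_empty] at hpre
      obtain ⟨n, hn⟩ := (PrimeSpectrum.basicOpen_eq_bot_iff e).1 (SetLike.ext' hpre.symm)
      rcases n with _ | n
      · rw [pow_zero] at hn
        rw [← mul_one e, hn, mul_zero]
      · rwa [hid.pow_succ_eq] at hn
    · right
      rw [h1, Set.preimage_univ] at hpre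
      refine PrimeSpectrum.basicOpen_injOn_isIdempotentElem hid (IsIdempotentElem.one (M := C)) ?_
      rw [PrimeSpectrum.basicOpen_one]
      exact SetLike.ext' hpre.symm
  · rintro ⟨hC, hid⟩
    haveI : PreconnectedSpace Y := by
      refine preconnectedSpace_iff_clopen.2 fun Z hZ => ?_
      obtain ⟨e, he, heZ⟩ := PrimeSpectrum.exists_idempotent_basicOpen_eq_of_isClopen (hZ.preimage hπ.continuous)
      have hst : s e = t e := by
        refine PrimeSpectrum.basicOpen_injOn_isIdempotentElem (he.map s) (he.map t) (SetLike.ext' ?_)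
        ext r
        have h1 := Set.ext_iff.1 heZ (PrimeSpectrum.comap s r)
        have h2 := Set.ext_iff.1 heZ (PrimeSpectrum.comap t r)
        rw [Set.mem_preimage, (h _ _).2 ⟨r, rfl, rfl⟩, ← Set.mem_preimage (f := π), h2] at h1
        exact h1.symm
      rcases hid e he hst with rfl | rfl
      · left
        rw [PrimeSpectrum.basicOpen_zero] at heZ
        exact (Set.preimage_eq_empty_iff.1 (heZ.trans TopologicalSpace.Opens.coe_bot)).eq_bot_of_le
          (by rw [hπ.surjective.range_eq]; exact fun x _ => trivial)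
      · right
        rw [PrimeSpectrum.basicOpen_one] at heZ
        exact Set.eq_univ_of_forall fun y => by
          obtain ⟨u, rfl⟩ := hπ.surjective y
          exact (Set.ext_iff.1 (heZ.trans TopologicalSpace.Opens.coe_top) u).2 trivial
    exact { toNonempty := ⟨π (PrimeSpectrum.nonempty_iff_nontrivial.2 hC).some⟩ }

end Top

section Sp

variable {S : Scheme.{u}} {A : Type u} [CommRing A] {str : Spec (CommRingCat.of A) ⟶ S}

theorem isPullback_spMap_tensor (B C : Type u) [CommRing B] [CommRing C] [Algebra A B] [Algebra A C] :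
    IsPullback (spMap str (Algebra.TensorProduct.includeRight : C →ₐ[A] B ⊗[A] C))
      (spMap str (Algebra.TensorProduct.includeLeft : B →ₐ[A] B ⊗[A] C)) (spBase str C) (spBase str B) :=
  IsPullback.of_map (Over.forget S) ((spMap_base str _).trans (spMap_base str _).symm) (isPullback_tensor A B C)

theorem isPullback_spMap_map {B C D : Type u} [CommRing B] [CommRing C] [CommRing D] [Algebra A B] [Algebra A C]
    [Algebra A D] (g : C →ₐ[A] D) :
    IsPullback (spMap str (Algebra.TensorProduct.includeRight : D →ₐ[A] B ⊗[A] D))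
      (spMap str (Algebra.TensorProduct.map (AlgHom.id A B) g))
      (spMap str g) (spMap str (Algebra.TensorProduct.includeRight : C →ₐ[A] B ⊗[A] C)) := by
  refine IsPullback.of_bot ?_ ?_ (isPullback_spMap_tensor B C)
  · rw [spMap_base, spMap_comp,
      show (Algebra.TensorProduct.map (AlgHom.id A B) g).comp Algebra.TensorProduct.includeLeft =
        (Algebra.TensorProduct.includeLeft : B →ₐ[A] B ⊗[A] D) from
        AlgHom.ext fun b => by simp]
    exact isPullback_spMap_tensor B D
  · rw [spMap_comp, spMap_comp, Algebra.TensorProduct.map_comp_includeRight]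

variable {X : Sp S} {f : X ⟶ (yon S).obj (Over.mk str)}

/-- A quasi-compact separated space over an affine base as a quotient of an affine scheme. -/
theorem exists_pres (hX : IsAlgSpace X) (hqc : IsQuasiCompactSp X) (hsep : IsSeparatedMor f) :
    ∃ (C D : Type u) (_ : CommRing C) (_ : CommRing D) (_ : Algebra A C) (_ : Algebra A D)
      (a : (yon S).obj (spOver str C) ⟶ X) (s t : C →ₐ[A] D),
      RepWith @Etale a ∧ RepWith @Surjective a ∧ a ≫ f = (yon S).map (spBase str C) ∧
        IsPullback ((yon S).map (spMap str s)) ((yon S).map (spMap str t)) a a ∧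
          Algebra.adjoin A (Set.range s ∪ Set.range t) = ⊤ := by
  obtain ⟨C, _, _, a, ha, has, w⟩ := exists_spOver_atlas str hqc f
  obtain ⟨R, p, q, sq⟩ : ∃ (R : Over S) (p : R ⟶ spOver str C) (q : R ⟶ spOver str C),
      IsPullback ((yon S).map p) ((yon S).map q) a a := exists_isPullback_of_representable ha.1 a
  have sqR := isPullback_spMap_tensor (str := str) C C
  have hpq : q ≫ spBase str C = p ≫ spBase str C := (yon S).map_injective (by
    rw [Functor.map_comp, Functor.map_comp, ← w, ← Category.assoc, ← Category.assoc, sq.w])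
  let c := sqR.lift q p hpq
  have hc : IsClosedImmersion c.left :=
    isClosedImmersion_lift f hsep w w sq sqR.flip c (sqR.lift_snd _ _ _) (sqR.lift_fst _ _ _)
  obtain ⟨I, e, he⟩ := IsClosedImmersion.Spec_iff.1 hc
  let mk : C ⊗[A] C →ₐ[A] (C ⊗[A] C) ⧸ I := Ideal.Quotient.mkₐ A I
  let E : R ≅ spOver str ((C ⊗[A] C) ⧸ I) := Over.isoMk e (by
    have h1 : Spec.map (CommRingCat.ofHom (algebraMap A ((C ⊗[A] C) ⧸ I))) =
        Spec.map (CommRingCat.ofHom (Ideal.Quotient.mk I)) ≫ Spec.map (CommRingCat.ofHom (algebraMap A (C ⊗[A] C))) := by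
      rw [← Spec.map_comp, ← CommRingCat.ofHom_comp]
      rfl
    show e.hom ≫ Spec.map _ ≫ str = R.hom
    rw [h1, Category.assoc, ← Category.assoc e.hom, ← he]
    exact Over.w c)
  have hE : E.hom ≫ spMap str mk = c := Over.OverMorphism.ext he.symm
  refine ⟨C, (C ⊗[A] C) ⧸ I, inferInstance, inferInstance, inferInstance, inferInstance, a,
    mk.comp Algebra.TensorProduct.includeLeft, mk.comp Algebra.TensorProduct.includeRight, ha, has, w, ?_, ?_⟩
  · refine sq.of_iso ((yon S).mapIso E) (Iso.refl _) (Iso.refl _) (Iso.refl _) ?_ ?_ (by simp) (by simp)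
    · simp only [Functor.mapIso_hom, Iso.refl_hom, Category.comp_id]
      rw [← Functor.map_comp, ← spMap_comp, ← Category.assoc, hE]
      exact (congrArg (yon S).map (sqR.lift_snd q p hpq)).symm
    · simp only [Functor.mapIso_hom, Iso.refl_hom, Category.comp_id]
      rw [← Functor.map_comp, ← spMap_comp, ← Category.assoc, hE]
      exact (congrArg (yon S).map (sqR.lift_fst q p hpq)).symm
  · refine eq_top_iff.2 fun z hz => ?_
    clear hz
    obtain ⟨z, rfl⟩ := Ideal.Quotient.mkₐ_surjective A I z
    induction z using TensorProduct.induction_on with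
    | zero => rw [map_zero]; exact zero_mem _
    | tmul x y =>
      rw [show x ⊗ₜ[A] y = (x ⊗ₜ 1) * ((1 : C) ⊗ₜ y) by simp, map_mul]
      exact mul_mem (Algebra.subset_adjoin (Or.inl ⟨x, rfl⟩)) (Algebra.subset_adjoin (Or.inr ⟨y, rfl⟩))
    | add x y hx hy => rw [map_add]; exact add_mem hx hy

variable {C D : Type u} [CommRing C] [CommRing D] [Algebra A C] [Algebra A D]
  {a : (yon S).obj (spOver str C) ⟶ X} {s t : C →ₐ[A] D}

/-- The presentation after a change of the base ring. -/
theorem exists_presBC (ha : RepWith @Etale a) (has : RepWith @Surjective a)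
    (w : a ≫ f = (yon S).map (spBase str C))
    (sq : IsPullback ((yon S).map (spMap str s)) ((yon S).map (spMap str t)) a a)
    (B : Type u) [CommRing B] [Algebra A B] {P : Sp S} {pX : P ⟶ X} {f' : P ⟶ (yon S).obj (spOver str B)}
    (hsq : IsPullback pX f' f ((yon S).map (spBase str B))) :
    ∃ b : (yon S).obj (spOver str (B ⊗[A] C)) ⟶ P, RepWith @Etale b ∧ RepWith @Surjective b ∧
      b ≫ f' = (yon S).map (spMap str (Algebra.TensorProduct.includeLeft : B →ₐ[A] B ⊗[A] C)) ∧
      IsPullback ((yon S).map (spMap str (Algebra.TensorProduct.map (AlgHom.id A B) s)))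
        ((yon S).map (spMap str (Algebra.TensorProduct.map (AlgHom.id A B) t))) b b := by
  let pW := spMap str (Algebra.TensorProduct.includeRight : C →ₐ[A] B ⊗[A] C)
  have sqT := (isPullback_spMap_tensor (str := str) B C).map (yon S)
  let b : (yon S).obj (spOver str (B ⊗[A] C)) ⟶ P := hsq.lift ((yon S).map pW ≫ a)
    ((yon S).map (spMap str (Algebra.TensorProduct.includeLeft : B →ₐ[A] B ⊗[A] C)))
    (by rw [Category.assoc, w]; exact sqT.w)
  have sqW : IsPullback ((yon S).map pW) b a pX := by
    refine IsPullback.of_bot ?_ (hsq.lift_fst _ _ _).symm hsq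
    rw [show b ≫ f' = _ from hsq.lift_snd _ _ _, w]
    exact sqT
  refine ⟨b, repWith_of_isPullback sqW ha, repWith_of_isPullback sqW has, hsq.lift_snd _ _ _, ?_⟩
  have h1 := ((isPullback_spMap_map (str := str) (B := B) s).map (yon S)).paste_horiz sq.flip
  have e : (yon S).map (spMap str (Algebra.TensorProduct.includeRight : D →ₐ[A] B ⊗[A] D)) ≫
      (yon S).map (spMap str t) =
      (yon S).map (spMap str (Algebra.TensorProduct.map (AlgHom.id A B) t)) ≫ (yon S).map pW := by
    rw [← Functor.map_comp, ← Functor.map_comp, spMap_comp, spMap_comp,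
      Algebra.TensorProduct.map_comp_includeRight]
  rw [e, sqW.w] at h1
  have hb : ((yon S).map (spMap str (Algebra.TensorProduct.map (AlgHom.id A B) t))) ≫ b =
      ((yon S).map (spMap str (Algebra.TensorProduct.map (AlgHom.id A B) s))) ≫ b := by
    refine hsq.hom_ext ?_ ?_
    · rw [Category.assoc, ← sqW.w, ← Category.assoc, h1.w, ← Category.assoc]
    · rw [Category.assoc, Category.assoc, show b ≫ f' = _ from hsq.lift_snd _ _ _, ← Functor.map_comp,
        ← Functor.map_comp, spMap_comp, spMap_comp]
      congr 2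
      exact AlgHom.ext fun x => by simp
  exact (IsPullback.of_right h1 hb sqW).flip

variable (ha : RepWith @Etale a) (has : RepWith @Surjective a) (w : a ≫ f = (yon S).map (spBase str C))
  (sq : IsPullback ((yon S).map (spMap str s)) ((yon S).map (spMap str t)) a a)

include ha has w sq in
theorem exists_quotientMap (B : Type u) [CommRing B] [Algebra A B] {P : Sp S} {pX : P ⟶ X}
    {f' : P ⟶ (yon S).obj (spOver str B)} (hsq : IsPullback pX f' f ((yon S).map (spBase str B))) :
    ∃ π : PrimeSpectrum (B ⊗[A] C) → Points P, IsOpenQuotientMap π ∧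
      (∀ u, Points.map f' (π u) = Points.ofScheme (spOver str B)
        (PrimeSpectrum.comap (Algebra.TensorProduct.includeLeftRingHom : B →+* B ⊗[A] C) u)) ∧
      ∀ u v, π u = π v ↔ ∃ r : PrimeSpectrum (B ⊗[A] D),
        PrimeSpectrum.comap (Algebra.TensorProduct.map (AlgHom.id A B) s).toRingHom r = u ∧
        PrimeSpectrum.comap (Algebra.TensorProduct.map (AlgHom.id A B) t).toRingHom r = v := by
  obtain ⟨b, hb, hbs, hw, sqb⟩ := exists_presBC ha has w sq B hsq
  refine ⟨Points.ofPt b, isOpenQuotientMap_ofPt hb hbs, fun u => ?_, ofPt_eq_ofPt_iff sqb⟩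
  rw [Points.map_ofPt, hw, ofPt_map]
  rfl

include ha has w sq in
/-- A fibre over a field is connected iff the coequaliser is. -/
theorem connectedSpace_iff (K : Type u) [Field K] [Algebra A K] {P : Sp S} {pX : P ⟶ X}
    {f' : P ⟶ (yon S).obj (spOver str K)} (hsq : IsPullback pX f' f ((yon S).map (spBase str K))) :
    ConnectedSpace (Points P) ↔ CoeqConn s t K := by
  obtain ⟨π, hπ, -, h⟩ := exists_quotientMap ha has w sq K hsq
  exact connectedSpace_iff_idempotents _ _ hπ h

include ha has w sq in
/-- A universally closed space gives a proper pair. -/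
theorem properPair (hc : IsUnivClosedMor f) : ProperPair s t := by
  intro V _ _ _ _ d hd hinv hmax
  have hsq := IsPullback.of_hasPullback f ((yon S).map (spBase str V))
  obtain ⟨π, hπ, hmap, h⟩ := exists_quotientMap ha has w sq V hsq
  by_contra hne
  have hclosed := hc (IsAlgSpace.yon_obj (spOver str V)) _ _ _ hsq _
    (isClopen_image_basicOpen _ _ hπ h hd hinv).1
  have hnonempty : ∃ u : PrimeSpectrum (V ⊗[A] C), u ∈ PrimeSpectrum.basicOpen d := by
    by_contra hempty
    have hbot : PrimeSpectrum.basicOpen d = ⊥ :=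
      SetLike.ext' (Set.eq_empty_of_forall_notMem fun u hu => hempty ⟨u, hu⟩)
    obtain ⟨n, hn⟩ := (PrimeSpectrum.basicOpen_eq_bot_iff d).1 hbot
    rcases n with _ | n
    · rw [pow_zero] at hn
      exact hne (by rw [← mul_one d, hn, mul_zero])
    · exact hne (by rwa [hd.pow_succ_eq] at hn)
  obtain ⟨u, hu⟩ := hnonempty
  let Z : Set (PrimeSpectrum V) := {z | Points.ofScheme (spOver str V) z ∈
    Points.map (pullback.snd f ((yon S).map (spBase str V))) '' (π '' (PrimeSpectrum.basicOpen d : Set _))}
  have hZ : IsClosed Z := hclosed.preimage (Points.schemeHomeo (spOver str V)).continuous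
  have hy : PrimeSpectrum.comap (Algebra.TensorProduct.includeLeftRingHom : V →+* V ⊗[A] C) u ∈ Z :=
    ⟨π u, ⟨u, hu, rfl⟩, hmap u⟩
  have hspec : (PrimeSpectrum.comap (Algebra.TensorProduct.includeLeftRingHom : V →+* V ⊗[A] C) u) ⤳
      IsLocalRing.closedPoint V :=
    (PrimeSpectrum.le_iff_specializes _ _).1 (IsLocalRing.le_maximalIdeal (Ideal.IsPrime.ne_top inferInstance))
  obtain ⟨x, ⟨v, hv, rfl⟩, hx⟩ := hspec.mem_closed hZ hy
  rw [hmap] at hx
  have e := (Points.schemeEquiv (spOver str V)).injective hx
  exact hv (hmax v.asIdeal v.isPrime (congrArg PrimeSpectrum.asIdeal e))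

end Sp

section Main

variable {S : Scheme.{u}} {A : Type u} [CommRing A] {str : Spec (CommRingCat.of A) ⟶ S}
  {X : Sp S} {f : X ⟶ (yon S).obj (Over.mk str)}

/-- Over an affine base, connectedness of the geometric fibres is an open condition. -/
theorem exists_opens_connected (hX : IsAlgSpace X) (hqc : IsQuasiCompactSp X) (hsep : IsSeparatedMor f)
    (hc : IsUnivClosedMor f) (hfl : LocP @Flat f) (hlfp : LocP @LocallyOfFinitePresentation f)
    (hred : LocP (Everywhere redCond) f) :
    ∃ O : Opens (PrimeSpectrum A), ∀ (K : Type u) [Field K] [IsAlgClosed K] [Algebra A K] {P : Sp S}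
      {pX : P ⟶ X} {f' : P ⟶ (yon S).obj (spOver str K)},
      IsPullback pX f' f ((yon S).map (spBase str K)) →
        (ConnectedSpace (Points P) ↔
          (⟨RingHom.ker (algebraMap A K), RingHom.ker_isPrime _⟩ : PrimeSpectrum A) ∈ O) := by
  obtain ⟨C, D, _, _, _, _, a, s, t, ha, has, w, sq, hgen⟩ := exists_pres hX hqc hsep
  have w' : a ≫ f = (yon S).map (spBase str C) ≫ 𝟙 _ := by rw [Category.comp_id, w]
  haveI hflC : Flat (spBase str C).left := hfl a (𝟙 _) _ ha (repWith_id _ _) w'
  haveI hlfpC : LocallyOfFinitePresentation (spBase str C).left := hlfp a (𝟙 _) _ ha (repWith_id _ _) w'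
  haveI : Etale (spMap str s).left := repWith_prop ha sq.flip
  have hD : (spBase str D).left = (spMap str s).left ≫ (spBase str C).left :=
    (congrArg CommaMorphism.left (spMap_base str s)).symm
  haveI : Flat (spBase str D).left := hD ▸ inferInstance
  haveI : LocallyOfFinitePresentation (spBase str D).left := hD ▸ inferInstance
  haveI : Module.Flat A C :=
    RingHom.flat_algebraMap_iff.1 ((HasRingHomProperty.Spec_iff (P := @Flat)).1 hflC)
  haveI : Module.Flat A D :=
    RingHom.flat_algebraMap_iff.1 ((HasRingHomProperty.Spec_iff (P := @Flat)).1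
      (show Flat (Spec.map (CommRingCat.ofHom (algebraMap A D))) from ‹Flat (spBase str D).left›))
  haveI : Algebra.FinitePresentation A C :=
    RingHom.finitePresentation_algebraMap.1 ((HasRingHomProperty.Spec_iff (P := @LocallyOfFinitePresentation)).1 hlfpC)
  haveI : Algebra.FinitePresentation A D :=
    RingHom.finitePresentation_algebraMap.1 ((HasRingHomProperty.Spec_iff (P := @LocallyOfFinitePresentation)).1
      (show LocallyOfFinitePresentation (Spec.map (CommRingCat.ofHom (algebraMap A D))) from
        ‹LocallyOfFinitePresentation (spBase str D).left›))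
  obtain ⟨O, hO⟩ := exists_opens s t hgen (hred a (𝟙 _) _ ha (repWith_id _ _) w') (properPair ha has w sq hc)
  exact ⟨O, fun K _ _ _ P pX f' hsq => (connectedSpace_iff ha has w sq K hsq).trans (hO K)⟩

end Main

end Groth.L21.ConnFam
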